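import Groth.Agent.Lib.CplDomain.PolyGRing
import Groth.Agent.Lib.GRing12.Basic
import Groth.Agent.Lib.FlatDepth.HomBC
import Groth.Agent.Lib.FormalH7.CplRing
import Groth.Agent.S4704
import Groth.Agent.S4736
import Mathlib

/-! # Permanence of G-rings -/

set_option autoImplicit false
universe u

open IsLocalRing TensorProduct

namespace Groth.Agent.GRing6

/-- Shortcut for the algebra structure of a completion. -/
noncomputable local instance (priority := high) cplAlgebra (A : Type u) [CommRing A] [IsLocalRing A] :
    Algebra A (EGA4.Cpl A) :=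
  AdicCompletion.instAlgebra _

/-- The completion map of the local ring at `p` is regular. -/
def IsGAt (A : Type u) [CommRing A] (p : Ideal A) [p.IsPrime] : Prop :=
  CAlg.IsRegularHom (Localization.AtPrime p) (EGA4.Cpl (Localization.AtPrime p))

theorem isGRing_iff (A : Type u) [CommRing A] :
    CAlg.IsGRing A ↔ IsNoetherianRing A ∧ ∀ (p : Ideal A) [p.IsPrime], IsGAt A p :=
  Iff.rfl

theorem isGeometricallyRegular_of_isLocalization (k : Type u) [Field k] (k' : Type u) [CommRing k'] [IsRegularRing k']
    (B B' : Type u) [CommRing B] [CommRing B'] [Algebra B B'] [Algebra B k'] (M : Submonoid B) [IsLocalization M B'] :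
    IsRegularRing (k' ⊗[B] B') :=
  FlatDepth.isRegularRing_of_isLocalization (Algebra.algebraMapSubmonoid k' M)

/-- Localizations are regular homomorphisms. -/
theorem isRegularHom_isLocalization (A B : Type u) [CommRing A] [CommRing B] [IsNoetherianRing A] [Algebra A B]
    (M : Submonoid A) [IsLocalization M B] : CAlg.IsRegularHom A B := by
  haveI : IsNoetherianRing B := IsLocalization.isNoetherianRing M B inferInstance
  refine ⟨IsLocalization.flat B M, fun p _ => ⟨FlatDepth.isNoetherianRing_fiber p, fun k' _ _ _ => ?_⟩⟩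
  letI : Algebra A k' := ((algebraMap p.ResidueField k').comp (algebraMap A p.ResidueField)).toAlgebra
  haveI : IsScalarTower A p.ResidueField k' := .of_algebraMap_eq fun _ => rfl
  exact @IsRegularRing.of_ringEquiv _ _ _ _
    (Algebra.TensorProduct.cancelBaseChange A p.ResidueField p.ResidueField k' B).symm.toRingEquiv
    (isGeometricallyRegular_of_isLocalization p.ResidueField k' A B M)

/-- A regular homomorphism into an algebra over a localization of the base is regular over the localization. -/
theorem isRegularHom_of_localized_base (A A' B : Type u) [CommRing A] [CommRing A'] [CommRing B] [IsNoetherianRing B]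
    [Algebra A A'] [Algebra A B] [Algebra A' B] [IsScalarTower A A' B] (M : Submonoid A) [IsLocalization M A']
    (h : CAlg.IsRegularHom A B) : CAlg.IsRegularHom A' B := by
  haveI := h.1
  haveI := IsLocalization.tensorProduct_compatibleSMul M A' A' B
  let e : A' ⊗[A] B ≃ₐ[A'] B :=
    (Algebra.TensorProduct.equivOfCompatibleSMul A A' A' A' B).symm.trans (Algebra.TensorProduct.lid A' B)
  haveI : Module.Flat A' B := (Module.flat_iff_of_isLocalization A' M B).2 inferInstance
  exact ⟨inferInstance, fun P _ => ⟨FlatDepth.isNoetherianRing_fiber P,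
    FlatDepth.isGeomRegular_fibre (RingHom.surjectiveOnStalks_of_isLocalization M _) e (fun p _ => (h.2 p).2) P⟩⟩

/-- Regularity of completion maps descends along regular homomorphisms. -/
theorem isGAt_of_regularHom (A B : Type u) [CommRing A] [CommRing B] [IsNoetherianRing A] [IsNoetherianRing B]
    [Algebra A B] (h : CAlg.IsRegularHom A B) (Q : Ideal B) [Q.IsPrime] (p : Ideal A) [p.IsPrime]
    (hp : p = Q.comap (algebraMap A B)) (hQ : IsGAt B Q) : IsGAt A p := by
  haveI : Q.LiesOver p := ⟨hp⟩
  letI := Localization.AtPrime.algebraOfLiesOver p Q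
  haveI : IsLocalHom (algebraMap (Localization.AtPrime p) (Localization.AtPrime Q)) :=
    Localization.isLocalHom_localRingHom p Q (algebraMap A B) hp
  have h1 : CAlg.IsRegularHom A (Localization.AtPrime Q) :=
    FlatDepth.isRegularHom_comp A B (Localization.AtPrime Q) h (isRegularHom_isLocalization B _ Q.primeCompl)
  exact S4704.result (Localization.AtPrime p) (Localization.AtPrime Q)
    (isRegularHom_of_localized_base A _ _ p.primeCompl h1) hQ

/-- G-rings are stable under isomorphism. -/
theorem isGRing_of_ringEquiv {A B : Type u} [CommRing A] [CommRing B] (e : A ≃+* B) (hB : CAlg.IsGRing B) :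
    CAlg.IsGRing A := by
  haveI := hB.1
  haveI : IsNoetherianRing A := isNoetherianRing_of_ringEquiv B e.symm
  letI := e.toRingHom.toAlgebra
  refine ⟨inferInstance, fun p _ => ?_⟩
  haveI : (p.comap e.symm.toRingHom).IsPrime := Ideal.IsPrime.comap _
  exact isGAt_of_regularHom A B (GRing12.isRegularHom_of_bijective A B e.bijective) (p.comap e.symm.toRingHom) p
    (Ideal.ext fun x => by simp [RingHom.algebraMap_toAlgebra]) (hB.2 _)

theorem isRegularHom_cpl_atPrime (A : Type u) [CommRing A] [IsNoetherianRing A] (m : Ideal A) [m.IsPrime]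
    (h : IsGAt A m) : CAlg.IsRegularHom A (EGA4.Cpl (Localization.AtPrime m)) :=
  FlatDepth.isRegularHom_comp A (Localization.AtPrime m) _ (isRegularHom_isLocalization A _ m.primeCompl) h

/-- Only maximal ideals matter. -/
theorem isGRing_of_maximal (A : Type u) [CommRing A] [IsNoetherianRing A]
    (h : ∀ (m : Ideal A) [m.IsMaximal], IsGAt A m) : CAlg.IsGRing A := by
  refine ⟨inferInstance, fun p _ => ?_⟩
  obtain ⟨m, hm, hpm⟩ := Ideal.exists_le_maximal p (Ideal.IsPrime.ne_top ‹_›)
  let R := Localization.AtPrime m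
  let T := EGA4.Cpl R
  have hdisj : Disjoint (m.primeCompl : Set A) (p : Set A) := Set.disjoint_left.2 fun x hx hxp => hx (hpm hxp)
  haveI : (p.map (algebraMap A R)).IsPrime := IsLocalization.isPrime_of_isPrime_disjoint m.primeCompl R p ‹_› hdisj
  haveI : Module.FaithfullyFlat R T := CplLocH7.faithfullyFlat_cpl R
  obtain ⟨⟨P, hP⟩, hcomap⟩ := PrimeSpectrum.comap_surjective_of_faithfullyFlat (A := R) (B := T)
    ⟨p.map (algebraMap A R), ‹_›⟩
  haveI := hP
  haveI : IsLocalRing T := inferInstance
  haveI : IsAdicComplete (maximalIdeal T) T := by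
    rw [CplLocH7.maximalIdeal_cpl]
    exact (IsAdicComplete.map_algebraMap_iff _ _).2 (AdicCompletion.isAdicComplete (IsNoetherian.noetherian _))
  refine isGAt_of_regularHom A T (isRegularHom_cpl_atPrime A m (h m)) P p ?_ ((CplDomain.isGRing_of_complete T).2 P)
  rw [IsScalarTower.algebraMap_eq A R T, ← Ideal.comap_comap]
  rw [show Ideal.comap (algebraMap R T) P = p.map (algebraMap A R) from congrArg PrimeSpectrum.asIdeal hcomap]
  exact (IsLocalization.under_map_of_isPrime_disjoint m.primeCompl R ‹_› hdisj).symm

/-- Polynomial rings in one variable. -/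
theorem isGRing_polynomial (R : Type u) [CommRing R] (hR : CAlg.IsGRing R) : CAlg.IsGRing (Polynomial R) := by
  haveI := hR.1
  refine ⟨inferInstance, fun n _ => ?_⟩
  let m := n.comap (algebraMap R (Polynomial R))
  let Rm := Localization.AtPrime m
  let T := EGA4.Cpl Rm
  haveI : IsAdicComplete (maximalIdeal T) T := by
    rw [CplLocH7.maximalIdeal_cpl]
    exact (IsAdicComplete.map_algebraMap_iff _ _).2 (AdicCompletion.isAdicComplete (IsNoetherian.noetherian _))
  have hreg : CAlg.IsRegularHom R T := isRegularHom_cpl_atPrime R m (hR.2 m)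
  haveI : IsNoetherianRing (Polynomial R ⊗[R] T) :=
    FlatDepth.isNoetherianRing_baseChange R T (Polynomial R) (Or.inr inferInstance)
  have hreg' : CAlg.IsRegularHom (Polynomial R) (Polynomial R ⊗[R] T) :=
    FlatDepth.isRegularHom_baseChange R T (Polynomial R) hreg
  -- a prime over `n`
  let k := n.ResidueField
  letI : Algebra Rm k :=
    (IsLocalization.lift (M := m.primeCompl) (g := algebraMap R k) fun s => isUnit_iff_ne_zero.2 fun h => s.2 (by
      rw [IsScalarTower.algebraMap_apply R (Polynomial R) k, Ideal.algebraMap_residueField_eq_zero] at h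
      exact h)).toAlgebra
  haveI : IsScalarTower R Rm k := .of_algebraMap_eq fun x => (IsLocalization.lift_eq _ x).symm
  haveI : Module.FaithfullyFlat Rm T := CplLocH7.faithfullyFlat_cpl Rm
  haveI : Nontrivial (k ⊗[Rm] T) := Module.FaithfullyFlat.rTensor_nontrivial Rm T k
  haveI := IsLocalization.tensorProduct_compatibleSMul m.primeCompl Rm k T
  haveI : Nontrivial (k ⊗[R] T) :=
    (Algebra.TensorProduct.equivOfCompatibleSMul R Rm k k T).symm.toEquiv.nontrivial
  obtain ⟨Q₀, hQ₀⟩ := Ideal.exists_maximal (k ⊗[R] T)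
  let f : Polynomial R ⊗[R] T →ₐ[R] k ⊗[R] T :=
    Algebra.TensorProduct.map (IsScalarTower.toAlgHom R (Polynomial R) k) (AlgHom.id R T)
  haveI := hQ₀.isPrime
  let Q : Ideal (Polynomial R ⊗[R] T) := Q₀.comap f.toRingHom
  have hn : n = Q.comap (algebraMap (Polynomial R) (Polynomial R ⊗[R] T)) := by
    ext x
    show x ∈ n ↔ f (x ⊗ₜ[R] (1 : T)) ∈ Q₀
    rw [Algebra.TensorProduct.map_tmul, map_one]
    show x ∈ n ↔ (algebraMap k (k ⊗[R] T)) (algebraMap (Polynomial R) k x) ∈ Q₀
    refine ⟨fun hx => ?_, fun hx => ?_⟩
    · rw [Ideal.algebraMap_residueField_eq_zero.2 hx, map_zero]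
      exact zero_mem _
    · by_contra hxn
      refine hQ₀.ne_top (Ideal.eq_top_of_isUnit_mem _ hx (IsUnit.map _ (isUnit_iff_ne_zero.2 fun h => hxn ?_)))
      exact Ideal.algebraMap_residueField_eq_zero.1 h
  -- transport to `T[X]`
  have hG : CAlg.IsGRing (Polynomial R ⊗[R] T) := by
    refine isGRing_of_ringEquiv ?_ (CplDomain.isGRing_polynomial_of_complete T)
    exact ((Algebra.TensorProduct.comm R (Polynomial R) T).toRingEquiv.trans (polyEquivTensor R T).symm.toRingEquiv)
  exact isGAt_of_regularHom (Polynomial R) (Polynomial R ⊗[R] T) hreg' Q n hn (hG.2 Q)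

theorem isGRing_mvPolynomial (R : Type u) [CommRing R] (hR : CAlg.IsGRing R) :
    ∀ n : ℕ, CAlg.IsGRing (MvPolynomial (Fin n) R)
  | 0 => isGRing_of_ringEquiv (MvPolynomial.isEmptyRingEquiv R (Fin 0)) hR
  | n + 1 => isGRing_of_ringEquiv (MvPolynomial.finSuccEquiv R n).toRingEquiv
      (isGRing_polynomial _ (isGRing_mvPolynomial R hR n))

/-- G-rings pass to quotients. -/
theorem isGRing_of_surjective (A B : Type u) [CommRing A] [CommRing B] [Algebra A B]
    (hs : Function.Surjective (algebraMap A B)) (hA : CAlg.IsGRing A) : CAlg.IsGRing B := by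
  haveI := hA.1
  haveI : IsNoetherianRing B := isNoetherianRing_of_surjective A B (algebraMap A B) hs
  refine ⟨inferInstance, fun p _ => ?_⟩
  let n := p.comap (algebraMap A B)
  haveI : p.LiesOver n := ⟨rfl⟩
  letI := Localization.AtPrime.algebraOfLiesOver n p
  have hs' : Function.Surjective (algebraMap (Localization.AtPrime n) (Localization.AtPrime p)) := fun x => by
    obtain ⟨a, s, rfl⟩ := IsLocalization.exists_mk'_eq p.primeCompl x
    obtain ⟨r, rfl⟩ := hs a
    obtain ⟨t, ht⟩ := hs (s : B)
    refine ⟨IsLocalization.mk' _ r (⟨t, fun h => s.2 (ht ▸ h)⟩ : n.primeCompl), ?_⟩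
    show Localization.localRingHom n p (algebraMap A B) _ _ = _
    rw [Localization.localRingHom_mk']
    congr 1
    exact Subtype.ext ht
  haveI := CplLocH7.faithfullyFlat_cpl (Localization.AtPrime p)
  exact ⟨inferInstance, fun P _ => ⟨FlatDepth.isNoetherianRing_fiber P,
    FlatDepth.isGeomRegular_fibre (RingHom.surjectiveOnStalks_of_surjective hs')
      (FlatDepth.cplSurjEquiv (Localization.AtPrime n) (Localization.AtPrime p) hs')
      (fun q _ => ((hA.2 n).2 q).2) P⟩⟩

/-- Finite type algebras over G-rings are G-rings. -/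
theorem isGRing_of_finiteType (R S : Type u) [CommRing R] [CommRing S] [Algebra R S] [Algebra.FiniteType R S]
    (hR : CAlg.IsGRing R) : CAlg.IsGRing S := by
  obtain ⟨n, f, hf⟩ := Algebra.FiniteType.iff_quotient_mvPolynomial''.1 ‹Algebra.FiniteType R S›
  letI := f.toRingHom.toAlgebra
  exact isGRing_of_surjective (MvPolynomial (Fin n) R) S hf (isGRing_mvPolynomial R hR n)

/-- Localizations of G-rings are G-rings. -/
theorem isGRing_of_isLocalization (A B : Type u) [CommRing A] [CommRing B] [Algebra A B] (M : Submonoid A)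
    [IsLocalization M B] (hA : CAlg.IsGRing A) : CAlg.IsGRing B := by
  haveI := hA.1
  haveI : IsNoetherianRing B := IsLocalization.isNoetherianRing M B inferInstance
  refine ⟨inferInstance, fun q _ => ?_⟩
  haveI : IsLocalization.AtPrime (Localization.AtPrime q) (q.comap (algebraMap A B)) :=
    IsLocalization.isLocalization_isLocalization_atPrime_isLocalization M (Localization.AtPrime q) q
  let e : Localization.AtPrime (q.comap (algebraMap A B)) ≃+* Localization.AtPrime q :=
    (IsLocalization.algEquiv (q.comap (algebraMap A B)).primeCompl _ _).toRingEquiv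
  exact GRing12.isRegularHom_cpl_of_equiv _ _ e.symm (hA.2 _)

end Groth.Agent.GRing6
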