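import Groth.Agent.Lib.GRing6.Excellent
import Groth.Agent.Lib.CplLocH7.Basic
import Groth.Agent.Lib.Compl.Noetherian
import Mathlib

/-! # The completion map of a G-ring along any ideal is regular -/

set_option autoImplicit false
set_option linter.style.haveILetI false
universe u

open IsLocalRing TensorProduct

namespace Groth.Agent.GRing6

noncomputable local instance (priority := high) cplAlgebra' (A : Type u) [CommRing A] [IsLocalRing A] :
    Algebra A (EGA4.Cpl A) :=
  AdicCompletion.instAlgebra _

/-- Regularity of a homomorphism can be tested at the maximal ideals of the target. -/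
theorem isRegularHom_of_localization_maximal (A B : Type u) [CommRing A] [CommRing B] [Algebra A B]
    [IsNoetherianRing B] [Module.Flat A B]
    (h : ∀ (n : Ideal B) [n.IsMaximal], CAlg.IsRegularHom A (Localization.AtPrime n)) :
    CAlg.IsRegularHom A B := by
  refine ⟨inferInstance, fun p _ => ⟨FlatDepth.isNoetherianRing_fiber p, fun k' _ _ _ => ?_⟩⟩
  haveI := FlatDepth.isNoetherianRing_fiber (B := B) p
  letI : Algebra A k' := ((algebraMap p.ResidueField k').comp (algebraMap A p.ResidueField)).toAlgebra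
  haveI : IsScalarTower A p.ResidueField k' := .of_algebraMap_eq fun _ => rfl
  haveI : IsNoetherianRing (k' ⊗[p.ResidueField] p.Fiber B) :=
    haveI : IsNoetherianRing (p.Fiber B ⊗[p.ResidueField] k') := Algebra.FiniteType.isNoetherianRing (p.Fiber B) (p.Fiber B ⊗[p.ResidueField] k')
    isNoetherianRing_of_ringEquiv _
      (Algebra.TensorProduct.comm p.ResidueField (p.Fiber B) k').toRingEquiv
  let e0 : (k' ⊗[p.ResidueField] p.Fiber B) ≃+* (B ⊗[A] k') :=
    (Algebra.TensorProduct.cancelBaseChange A p.ResidueField p.ResidueField k' B).toRingEquiv.trans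
      (Algebra.TensorProduct.comm A k' B).toRingEquiv
  haveI : IsNoetherianRing (B ⊗[A] k') := isNoetherianRing_of_ringEquiv _ e0
  suffices IsRegularRing (B ⊗[A] k') from IsRegularRing.of_ringEquiv e0.symm
  refine isRegularRing_iff.2 fun P _ => ?_
  obtain ⟨n, hn, hle⟩ := Ideal.exists_le_maximal (P.comap (algebraMap B (B ⊗[A] k'))) (Ideal.IsPrime.ne_top inferInstance)
  let D' := (B ⊗[A] k') ⊗[B] Localization.AtPrime n
  haveI hD' : IsRegularRing D' := by
    haveI : IsRegularRing (k' ⊗[p.ResidueField] p.Fiber (Localization.AtPrime n)) := ((h n).2 p).2 k' ‹_›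
    exact IsRegularRing.of_ringEquiv
      (((Algebra.TensorProduct.cancelBaseChange A p.ResidueField p.ResidueField k' (Localization.AtPrime n)).toRingEquiv.trans
        (Algebra.TensorProduct.comm A k' (Localization.AtPrime n)).toRingEquiv).trans
        ((Algebra.TensorProduct.cancelBaseChange A B B (Localization.AtPrime n) k').symm.toRingEquiv.trans
          (Algebra.TensorProduct.comm B (Localization.AtPrime n) (B ⊗[A] k')).toRingEquiv))
  haveI : IsLocalization (Algebra.algebraMapSubmonoid (B ⊗[A] k') n.primeCompl) D' := by infer_instance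
  have hdisj : Disjoint (Algebra.algebraMapSubmonoid (B ⊗[A] k') n.primeCompl : Set (B ⊗[A] k')) (P : Set (B ⊗[A] k')) :=
    Set.disjoint_left.2 fun _ ⟨s, hs, hsx⟩ hP => hs (hle (hsx ▸ hP : algebraMap B (B ⊗[A] k') s ∈ P))
  haveI : (P.map (algebraMap (B ⊗[A] k') D')).IsPrime :=
    IsLocalization.isPrime_of_isPrime_disjoint _ D' P ‹_› hdisj
  have hmem : (⟨P.map (algebraMap (B ⊗[A] k') D'), ‹_›⟩ : PrimeSpectrum D') ∈ EGA4.regLocus D' :=
    isRegularRing_iff.1 hD' _
  rw [regLocus_isLocalization (B ⊗[A] k') D' (Algebra.algebraMapSubmonoid (B ⊗[A] k') n.primeCompl)] at hmem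
  have hc : PrimeSpectrum.comap (algebraMap (B ⊗[A] k') D') ⟨P.map (algebraMap (B ⊗[A] k') D'), ‹_›⟩ = ⟨P, ‹_›⟩ :=
    PrimeSpectrum.ext (IsLocalization.under_map_of_isPrime_disjoint _ D' ‹_› hdisj)
  rw [Set.mem_preimage, hc] at hmem
  exact hmem

/-- The completion of a G-ring along an ideal is regular over it. -/
theorem isRegularHom_adicCompletion (A : Type u) [CommRing A] (hA : CAlg.IsGRing A) (I : Ideal A) :
    CAlg.IsRegularHom A (AdicCompletion I A) := by
  haveI := hA.1
  have hI : I.FG := IsNoetherian.noetherian I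
  let B := AdicCompletion I A
  haveI : IsNoetherianRing B := Compl.isNoetherianRing_adicCompletion I hI
  haveI : Module.Flat A B := AdicCompletion.flat_of_isNoetherian I
  haveI := AdicCompletion.isAdicComplete_self I hI
  refine isRegularHom_of_localization_maximal A B fun n _ => ?_
  have hIn : I.map (algebraMap A B) ≤ n :=
    (IsAdicComplete.le_jacobson_bot (I.map (algebraMap A B))).trans (sInf_le ⟨bot_le, inferInstance⟩)
  have happrox : ∀ c : B, ∃ a : A, c - algebraMap A B a ∈ I.map (algebraMap A B) := fun c => by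
    obtain ⟨a, ha⟩ := Ideal.Quotient.mk_surjective (AdicCompletion.evalOneₐ I c)
    refine ⟨a, ?_⟩
    rw [← AdicCompletion.ker_evalOneₐ_eq_map I hI, RingHom.mem_ker]
    show AdicCompletion.evalOneₐ I (c - algebraMap A B a) = 0
    rw [map_sub, AlgHom.commutes, Ideal.Quotient.algebraMap_eq, ← ha, sub_self]
  let m := n.comap (algebraMap A B)
  haveI : m.IsMaximal := by
    refine Ideal.Quotient.maximal_of_isField _ (MulEquiv.isField (B := B ⧸ n) ((Ideal.Quotient.maximal_ideal_iff_isField_quotient n).1 ‹_›) ?_)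
    refine (RingEquiv.ofBijective (Ideal.quotientMap n (algebraMap A B) le_rfl) ⟨Ideal.quotientMap_injective, fun y => ?_⟩).toMulEquiv
    obtain ⟨c, rfl⟩ := Ideal.Quotient.mk_surjective y
    obtain ⟨a, ha⟩ := happrox c
    refine ⟨Ideal.Quotient.mk _ a, ?_⟩
    rw [Ideal.quotientMap_mk]
    exact ((Ideal.Quotient.eq).2 (hIn ha)).symm
  have hmn : m.map (algebraMap A B) = n := by
    refine le_antisymm Ideal.map_comap_le fun c hc => ?_
    obtain ⟨a, ha⟩ := happrox c
    have hIm : I ≤ m := Ideal.map_le_iff_le_comap.1 hIn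
    have ham : a ∈ m := by
      show algebraMap A B a ∈ n
      have := n.sub_mem hc (hIn ha)
      rwa [sub_sub_cancel] at this
    simpa using (m.map (algebraMap A B)).add_mem (Ideal.mem_map_of_mem _ ham) (Ideal.map_mono hIm ha)
  haveI : n.LiesOver m := ⟨rfl⟩
  letI := Localization.AtPrime.algebraOfLiesOver m n
  let R := Localization.AtPrime m
  let S := Localization.AtPrime n
  haveI : IsLocalHom (algebraMap R S) := Localization.isLocalHom_localRingHom m n (algebraMap A B) rfl
  haveI : Module.Flat A S := Module.Flat.trans A B S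
  haveI : Module.Flat R S := (Module.flat_iff_of_isLocalization R m.primeCompl S).2 inferInstance
  have hm : (maximalIdeal R).map (algebraMap R S) = maximalIdeal S := by
    rw [← Localization.AtPrime.map_eq_maximalIdeal, Ideal.map_map, ← IsScalarTower.algebraMap_eq,
      IsScalarTower.algebraMap_eq A B S, ← Ideal.map_map, hmn, Localization.AtPrime.map_eq_maximalIdeal]
  have hres : ∀ b : S, ∃ c : Unit → R, b - ∑ i, c i • (1 : S) ∈ maximalIdeal S := fun b => by
    obtain ⟨x, s, rfl⟩ := IsLocalization.exists_mk'_eq n.primeCompl b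
    obtain ⟨y, z, hz, hy⟩ := (Ideal.IsMaximal.exists_inv ‹n.IsMaximal› s.2)
    obtain ⟨a, ha⟩ := happrox (x * y)
    refine ⟨fun _ => algebraMap A R a, ?_⟩
    rw [Fintype.sum_unique, algebraMap_smul, ← Algebra.algebraMap_eq_smul_one, IsScalarTower.algebraMap_apply A B S,
      ← Ideal.unit_mul_mem_iff_mem _ (IsLocalization.map_units S s), mul_sub, IsLocalization.mk'_spec', ← map_mul,
      ← map_sub, IsLocalization.AtPrime.to_map_mem_maximal_iff S n]
    have : x - (s : B) * algebraMap A B a = x * z + (s : B) * (x * y - algebraMap A B a) := by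
      linear_combination (x * (-1 : B)) * hy
    rw [this]
    exact n.add_mem (n.mul_mem_left _ hz) (n.mul_mem_left _ (hIn ha))
  obtain ⟨_, _, hff⟩ := FlatDepth.exists_cpl_tower R S
  have hsurj : Function.Surjective (algebraMap (EGA4.Cpl R) (EGA4.Cpl S)) := fun y => by
    obtain ⟨c, hc⟩ := CplLocH7.surjective_linearCombination (A := R) hm (fun _ : Unit => (1 : S)) hres y
    refine ⟨c (), ?_⟩
    rw [← hc, Fintype.linearCombination_apply, Fintype.sum_unique, map_one, ← Algebra.algebraMap_eq_smul_one]
  haveI : Module.FaithfullyFlat (EGA4.Cpl R) (EGA4.Cpl S) := hff inferInstance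
  have hinj : Function.Injective (algebraMap (EGA4.Cpl R) (EGA4.Cpl S)) := by
    rw [RingHom.injective_iff_ker_eq_bot, RingHom.ker_eq_comap_bot]
    conv_lhs => rw [← Ideal.map_bot (f := algebraMap (EGA4.Cpl R) (EGA4.Cpl S))]
    exact Ideal.comap_map_eq_self_of_faithfullyFlat ⊥
  haveI : IsScalarTower A (EGA4.Cpl R) (EGA4.Cpl S) := IsScalarTower.of_algebraMap_eq fun x => by
    rw [IsScalarTower.algebraMap_apply A R (EGA4.Cpl R), ← IsScalarTower.algebraMap_apply R (EGA4.Cpl R) (EGA4.Cpl S),
      IsScalarTower.algebraMap_apply R S (EGA4.Cpl S), ← IsScalarTower.algebraMap_apply A R S,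
      ← IsScalarTower.algebraMap_apply A S (EGA4.Cpl S)]
  have hc : CAlg.IsRegularHom A (EGA4.Cpl S) :=
    FlatDepth.isRegularHom_comp A (EGA4.Cpl R) (EGA4.Cpl S) (isRegularHom_cpl_atPrime A m (hA.2 m))
      (GRing12.isRegularHom_of_bijective _ _ ⟨hinj, hsurj⟩)
  haveI := CplLocH7.faithfullyFlat_cpl S
  exact FlatDepth.isRegularHom_of_comp A S (EGA4.Cpl S) hc

end Groth.Agent.GRing6
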