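import Groth.Agent.Lib.GRing6.FProp
import Mathlib

/-! # Geometric fibres and finite domains -/

set_option autoImplicit false
set_option linter.style.haveILetI false
universe u

open IsLocalRing TensorProduct

namespace Groth.Agent.GRing6

/-- Localizing `B ⊗[A] C` to the fraction field of the domain `B` does not change the local rings over the
generic point. -/
theorem exists_atPrime_equiv (A C B K : Type u) [CommRing A] [CommRing C] [CommRing B] [IsDomain B] [Field K]
    [Algebra A C] [Algebra A B] [Algebra B K] [Algebra A K] [IsScalarTower A B K] [IsFractionRing B K]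
    (q : Ideal (B ⊗[A] C)) [q.IsPrime] (hq : q.comap (algebraMap B (B ⊗[A] C)) = ⊥) :
    ∃ (P : Ideal (K ⊗[A] C)) (_ : P.IsPrime),
      Nonempty (Localization.AtPrime P ≃+* Localization.AtPrime q) := by
  let M := Algebra.algebraMapSubmonoid (B ⊗[A] C) (nonZeroDivisors B)
  let D' := (B ⊗[A] C) ⊗[B] K
  haveI : IsLocalization M D' := by infer_instance
  have hdisj : Disjoint (M : Set (B ⊗[A] C)) (q : Set (B ⊗[A] C)) := Set.disjoint_left.2 fun _ ⟨b, hb, hbx⟩ hmem => by
    have : b ∈ q.comap (algebraMap B (B ⊗[A] C)) := by rw [Ideal.mem_comap, hbx]; exact hmem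
    rw [hq, Ideal.mem_bot] at this
    exact nonZeroDivisors.ne_zero hb this
  let P' := q.map (algebraMap (B ⊗[A] C) D')
  haveI : P'.IsPrime := IsLocalization.isPrime_of_isPrime_disjoint M D' q ‹_› hdisj
  have hc : P'.comap (algebraMap (B ⊗[A] C) D') = q := IsLocalization.under_map_of_isPrime_disjoint M D' ‹_› hdisj
  haveI : IsLocalization.AtPrime (Localization.AtPrime P') q := by
    have h1 := IsLocalization.isLocalization_isLocalization_atPrime_isLocalization M (Localization.AtPrime P') P'
    simpa only [hc] using h1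
  let e : D' ≃+* K ⊗[A] C :=
    (Algebra.TensorProduct.comm B (B ⊗[A] C) K).toRingEquiv.trans
      (Algebra.TensorProduct.cancelBaseChange A B K K C).toRingEquiv
  refine ⟨P'.comap (e.symm : K ⊗[A] C →+* D'), inferInstance, ?_⟩
  exact ⟨(FlatDepth.atPrimeRingEquiv e.symm P').trans (IsLocalization.algEquiv q.primeCompl _ _).toRingEquiv⟩

/-- Conversely. -/
theorem exists_atPrime_equiv' (A C B K : Type u) [CommRing A] [CommRing C] [CommRing B] [IsDomain B] [Field K]
    [Algebra A C] [Algebra A B] [Algebra B K] [Algebra A K] [IsScalarTower A B K] [IsFractionRing B K]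
    (P : Ideal (K ⊗[A] C)) [P.IsPrime] :
    ∃ (q : Ideal (B ⊗[A] C)) (_ : q.IsPrime), q.comap (algebraMap B (B ⊗[A] C)) = ⊥ ∧
      Nonempty (Localization.AtPrime P ≃+* Localization.AtPrime q) := by
  let M := Algebra.algebraMapSubmonoid (B ⊗[A] C) (nonZeroDivisors B)
  let D' := (B ⊗[A] C) ⊗[B] K
  haveI : IsLocalization M D' := by infer_instance
  let e : D' ≃+* K ⊗[A] C :=
    (Algebra.TensorProduct.comm B (B ⊗[A] C) K).toRingEquiv.trans
      (Algebra.TensorProduct.cancelBaseChange A B K K C).toRingEquiv
  let P' := P.comap (e : D' →+* K ⊗[A] C)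
  refine ⟨P'.comap (algebraMap (B ⊗[A] C) D'), inferInstance, ?_, ?_⟩
  · rw [eq_bot_iff]
    intro b hb
    by_contra hb0
    have hu : IsUnit (algebraMap (B ⊗[A] C) D' (algebraMap B (B ⊗[A] C) b)) :=
      IsLocalization.map_units D' (⟨_, b, mem_nonZeroDivisors_of_ne_zero (fun h => hb0 h), rfl⟩ : M)
    exact (inferInstance : P'.IsPrime).ne_top (Ideal.eq_top_of_isUnit_mem _ hb hu)
  · haveI : IsLocalization.AtPrime (Localization.AtPrime P') (P'.comap (algebraMap (B ⊗[A] C) D')) :=
      IsLocalization.isLocalization_isLocalization_atPrime_isLocalization M (Localization.AtPrime P') P'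
    exact ⟨(FlatDepth.atPrimeRingEquiv e P).symm.trans
      (IsLocalization.algEquiv (P'.comap (algebraMap (B ⊗[A] C) D')).primeCompl _ _).toRingEquiv⟩

/-- A finite domain over `A` has as fraction field a finite extension of a residue field of `A`. -/
theorem exists_residueField_finite (A B : Type u) [CommRing A] [CommRing B] [IsDomain B] [Algebra A B] [Module.Finite A B] :
    ∃ (p : Ideal A) (_ : p.IsPrime) (_ : Algebra p.ResidueField (FractionRing B)),
      IsScalarTower A p.ResidueField (FractionRing B) ∧ Module.Finite p.ResidueField (FractionRing B) := by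
  let K := FractionRing B
  let p := RingHom.ker (algebraMap A K)
  haveI : p.IsPrime := RingHom.ker_isPrime _
  have hu : p.primeCompl ≤ (IsUnit.submonoid K).comap (algebraMap A K) := fun x hx =>
    isUnit_iff_ne_zero.2 fun h => hx h
  letI : Algebra p.ResidueField K := (Ideal.ResidueField.lift p (algebraMap A K) le_rfl hu).toAlgebra
  haveI : IsScalarTower A p.ResidueField K :=
    .of_algebraMap_eq fun x => (Ideal.ResidueField.lift_algebraMap p (algebraMap A K) le_rfl hu x).symm
  refine ⟨p, inferInstance, inferInstance, inferInstance, ?_⟩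
  let g : p.ResidueField ⊗[A] B →ₐ[p.ResidueField] K :=
    Algebra.TensorProduct.lift (Algebra.ofId p.ResidueField K) (IsScalarTower.toAlgHom A B K) fun _ _ => mul_comm _ _
  have hfield : IsField g.range := by
    haveI : Module.Finite p.ResidueField g.range := Module.Finite.of_surjective g.rangeRestrict.toLinearMap g.rangeRestrict_surjective
    haveI : Algebra.IsIntegral p.ResidueField g.range := Algebra.IsIntegral.of_finite _ _
    exact isField_of_isIntegral_of_isField' (R := p.ResidueField) (Field.toIsField _)
  have hsurj : Function.Surjective g := fun z => by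
    obtain ⟨a, b, hb, rfl⟩ := IsFractionRing.div_surjective (A := B) z
    have ha : algebraMap B K a ∈ g.range := ⟨(1 : p.ResidueField) ⊗ₜ[A] a, by
      show g ((1 : p.ResidueField) ⊗ₜ[A] a) = _
      exact (Algebra.TensorProduct.lift_tmul _ _ _ _ _).trans (by rw [map_one, one_mul]; rfl)⟩
    have hb' : algebraMap B K b ∈ g.range := ⟨(1 : p.ResidueField) ⊗ₜ[A] b, by
      show g ((1 : p.ResidueField) ⊗ₜ[A] b) = _
      exact (Algebra.TensorProduct.lift_tmul _ _ _ _ _).trans (by rw [map_one, one_mul]; rfl)⟩
    have hb0 : (⟨_, hb'⟩ : g.range) ≠ 0 := fun h =>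
      IsFractionRing.to_map_ne_zero_of_mem_nonZeroDivisors hb (congrArg Subtype.val h :)
    obtain ⟨c, hc⟩ := hfield.mul_inv_cancel hb0
    have hc' : algebraMap B K b * (c : K) = 1 := congrArg Subtype.val hc
    obtain ⟨x, hx⟩ := g.range.mul_mem ha c.2
    exact ⟨x, hx.trans (by rw [div_eq_mul_inv, eq_inv_of_mul_eq_one_right hc'])⟩
  exact Module.Finite.of_surjective g.toLinearMap hsurj

/-- Every finite extension of a residue field is the fraction field of a finite domain. -/
theorem exists_finite_domain (A : Type u) [CommRing A] (p : Ideal A) [p.IsPrime] (K : Type u) [Field K]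
    [Algebra p.ResidueField K] [Module.Finite p.ResidueField K] [Algebra A K] [IsScalarTower A p.ResidueField K] :
    ∃ B : Subalgebra A K, Module.Finite A B ∧ IsFractionRing B K := by
  classical
  letI : Algebra (A ⧸ p) K := ((algebraMap p.ResidueField K).comp (algebraMap (A ⧸ p) p.ResidueField)).toAlgebra
  haveI : IsScalarTower (A ⧸ p) p.ResidueField K := .of_algebraMap_eq fun _ => rfl
  haveI : IsScalarTower A (A ⧸ p) K := .of_algebraMap_eq fun x => by
    rw [IsScalarTower.algebraMap_apply (A ⧸ p) p.ResidueField K, ← IsScalarTower.algebraMap_apply A (A ⧸ p) p.ResidueField,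
      ← IsScalarTower.algebraMap_apply]
  obtain ⟨s, b, hb⟩ := FiniteDimensional.exists_is_basis_integral (A ⧸ p) p.ResidueField K
  let B : Subalgebra A K := Algebra.adjoin A (Set.range b)
  refine ⟨B, Module.Finite.iff_fg.2 (fg_adjoin_of_finite (Set.finite_range b) ?_), ?_⟩
  · rintro _ ⟨x, rfl⟩
    exact isIntegral_trans (A := A ⧸ p) (b x) (hb x)
  · have key : ∀ z ∈ Submodule.span p.ResidueField (Set.range b), ∃ t : A, algebraMap A K t ≠ 0 ∧ t • z ∈ B := by
      intro z hz
      induction hz using Submodule.span_induction with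
      | mem y hy => exact ⟨1, by simp, by simpa using Algebra.subset_adjoin hy⟩
      | zero => exact ⟨1, by simp, by simp⟩
      | add a c _ _ ha hc =>
        obtain ⟨t, ht, hta⟩ := ha
        obtain ⟨t', ht', htc⟩ := hc
        refine ⟨t * t', by rw [map_mul]; exact mul_ne_zero ht ht', ?_⟩
        rw [smul_add]
        exact add_mem (by rw [mul_comm, mul_smul]; exact B.smul_mem hta _) (by rw [mul_smul]; exact B.smul_mem htc _)
      | smul c a _ ha =>
        obtain ⟨t, ht, hta⟩ := ha
        obtain ⟨u, v, hv, hc⟩ := IsFractionRing.div_surjective (A := A ⧸ p) c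
        obtain ⟨u, rfl⟩ := Ideal.Quotient.mk_surjective u
        obtain ⟨v, rfl⟩ := Ideal.Quotient.mk_surjective v
        have hv' : algebraMap A p.ResidueField v ≠ 0 := by
          have := IsFractionRing.to_map_ne_zero_of_mem_nonZeroDivisors (K := p.ResidueField) hv
          rwa [← Ideal.Quotient.algebraMap_eq, ← IsScalarTower.algebraMap_apply] at this
        refine ⟨v * t, ?_, ?_⟩
        · rw [map_mul, IsScalarTower.algebraMap_apply A p.ResidueField K]
          exact mul_ne_zero ((map_ne_zero_iff _ (algebraMap p.ResidueField K).injective).2 hv') ht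
        · have e : (v * t) • c • a = u • t • a := by
            rw [mul_smul, smul_comm t c a, ← algebraMap_smul p.ResidueField v, smul_smul, ← algebraMap_smul p.ResidueField u]
            congr 1
            rw [← hc]
            exact mul_div_cancel₀ _ hv'
          rw [e]
          exact B.smul_mem hta _
    haveI : FaithfulSMul B K := (faithfulSMul_iff_algebraMap_injective _ _).2 Subtype.val_injective
    refine IsFractionRing.of_field B K fun z => ?_
    obtain ⟨t, ht, htz⟩ := key z (b.span_eq ▸ Submodule.mem_top)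
    refine ⟨⟨t • z, htz⟩, algebraMap A B t, ?_⟩
    show z = (t • z) / algebraMap A K t
    rw [Algebra.smul_def, mul_comm, mul_div_cancel_right₀ _ ht]

/-- All local rings of `R` satisfy `Q`. -/
def AllLocal (Q : ∀ (R : Type u) [CommRing R], Prop) (R : Type u) [CommRing R] : Prop :=
  ∀ (P : Ideal R) [P.IsPrime], Q (Localization.AtPrime P)

theorem AllLocal.of_ringEquiv {Q : ∀ (R : Type u) [CommRing R], Prop}
    (hQ : ∀ (R R' : Type u) [CommRing R] [CommRing R'], (R ≃+* R') → Q R → Q R')
    {R S : Type u} [CommRing R] [CommRing S] (e : R ≃+* S) (h : AllLocal Q R) : AllLocal Q S :=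
  fun P _ => hQ _ _ (FlatDepth.atPrimeRingEquiv e P) (h (P.comap (e : R →+* S)))

/-- Local properties of geometric fibres, tested on finite domains. -/
theorem geometric_fibre_iff_finite_domains (A C : Type u) [CommRing A] [CommRing C] [Algebra A C]
    (Q : ∀ (R : Type u) [CommRing R], Prop)
    (hQ : ∀ (R R' : Type u) [CommRing R] [CommRing R'], (R ≃+* R') → Q R → Q R') :
    (∀ (p : Ideal A) [p.IsPrime] (K : Type u) [Field K] [Algebra p.ResidueField K],
        Module.Finite p.ResidueField K →
        AllLocal Q (K ⊗[p.ResidueField] p.Fiber C)) ↔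
      ∀ (B : Type u) [CommRing B] [IsDomain B] [Algebra A B] [Module.Finite A B]
        (q : Ideal (B ⊗[A] C)) [q.IsPrime],
        q.comap (algebraMap B (B ⊗[A] C)) = ⊥ → Q (Localization.AtPrime q) := by
  constructor
  · intro h B _ _ _ _ q _ hq
    obtain ⟨p, _, _, _, hfin⟩ := exists_residueField_finite A B
    obtain ⟨P, _, ⟨e⟩⟩ := exists_atPrime_equiv A C B (FractionRing B) q hq
    have h' : AllLocal Q (FractionRing B ⊗[A] C) := AllLocal.of_ringEquiv hQ
      (Algebra.TensorProduct.cancelBaseChange A p.ResidueField p.ResidueField (FractionRing B) C).toRingEquiv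
      (h p (FractionRing B) hfin)
    exact hQ _ _ e (h' P)
  · intro h p _ K _ _ hK
    haveI := hK
    letI : Algebra A K := ((algebraMap p.ResidueField K).comp (algebraMap A p.ResidueField)).toAlgebra
    haveI : IsScalarTower A p.ResidueField K := .of_algebraMap_eq fun _ => rfl
    obtain ⟨B, hfin, hfrac⟩ := exists_finite_domain A p K
    haveI := hfin; haveI := hfrac
    refine AllLocal.of_ringEquiv hQ
      (Algebra.TensorProduct.cancelBaseChange A p.ResidueField p.ResidueField K C).toRingEquiv.symm fun P _ => ?_
    obtain ⟨q, _, hq, ⟨e⟩⟩ := exists_atPrime_equiv' A C B K P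
    exact hQ _ _ e.symm (h B q hq)

end Groth.Agent.GRing6
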