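import Groth.Agent.Lib.GRing6.PowerSeries
import Groth.Agent.Lib.FlatDepth.RegNormal
import Groth.Agent.Lib.GeomRed18.Alg
import Mathlib

/-! # Permanence of geometric properties of formal fibres -/

set_option autoImplicit false
set_option linter.style.haveILetI false
universe u

open IsLocalRing TensorProduct

namespace Groth.Agent.GRing6

noncomputable local instance (priority := high) cplAlgebra'' (A : Type u) [CommRing A] [IsLocalRing A] :
    Algebra A (EGA4.Cpl A) :=
  AdicCompletion.instAlgebra _

/-- A property of homomorphisms of Noetherian rings, implied by regularity, and with the usual permanence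
properties. -/
structure FProp : Type (u + 1) where
  P : ∀ (A B : Type u) [CommRing A] [CommRing B] [Algebra A B], Prop
  of_regular : ∀ (A B : Type u) [CommRing A] [CommRing B] [Algebra A B] [IsNoetherianRing A] [IsNoetherianRing B],
    CAlg.IsRegularHom A B → P A B
  comp : ∀ (A B C : Type u) [CommRing A] [CommRing B] [CommRing C] [Algebra A B] [Algebra B C] [Algebra A C]
    [IsScalarTower A B C] [IsNoetherianRing B] [IsNoetherianRing C], P A B → P B C → P A C
  of_comp : ∀ (A B C : Type u) [CommRing A] [CommRing B] [CommRing C] [Algebra A B] [Algebra B C] [Algebra A C]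
    [IsScalarTower A B C] [IsNoetherianRing B] [IsNoetherianRing C] [Module.FaithfullyFlat B C], P A C → P A B
  baseChange : ∀ (A B A' : Type u) [CommRing A] [CommRing B] [CommRing A'] [Algebra A B] [Algebra A A']
    [IsNoetherianRing B] [IsNoetherianRing (A' ⊗[A] B)], P A B → P A' (A' ⊗[A] B)
  of_stalks : ∀ (A A' B B' : Type u) [CommRing A] [CommRing A'] [CommRing B] [CommRing B'] [Algebra A A']
    [Algebra A B] [Algebra A' B'] [IsNoetherianRing B'] [Module.Flat A' B'],
    (algebraMap A A').SurjectiveOnStalks → (A' ⊗[A] B ≃ₐ[A'] B') → P A B → P A' B'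

/-- Geometrically reduced fibres (and flatness). -/
def IsReducedHom (A B : Type u) [CommRing A] [CommRing B] [Algebra A B] : Prop :=
  Module.Flat A B ∧ ∀ (p : Ideal A) [p.IsPrime], Algebra.IsGeometricallyReduced p.ResidueField (p.Fiber B)

theorem geomReduced_baseChange (k K S : Type u) [Field k] [Field K] [CommRing S] [Algebra k K] [Algebra k S]
    (h : Algebra.IsGeometricallyReduced k S) : Algebra.IsGeometricallyReduced K (K ⊗[k] S) := by
  rw [Algebra.isGeometricallyReduced_field_iff]
  haveI := h
  haveI : IsReduced (AlgebraicClosure K ⊗[k] S) := by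
    haveI := Groth.Agent.GeomRed.isReduced_tensor_field k (AlgebraicClosure K) S
    exact isReduced_of_injective (Algebra.TensorProduct.comm k (AlgebraicClosure K) S) (AlgEquiv.injective _)
  exact isReduced_of_injective (Algebra.TensorProduct.cancelBaseChange k K K (AlgebraicClosure K) S).toRingEquiv.toRingHom
    (RingEquiv.injective _)

theorem geomReduced_of_algEquiv {k S T : Type u} [Field k] [CommRing S] [CommRing T] [Algebra k S] [Algebra k T]
    (e : S ≃ₐ[k] T) (h : Algebra.IsGeometricallyReduced k S) : Algebra.IsGeometricallyReduced k T :=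
  haveI := h
  Algebra.IsGeometricallyReduced.of_injective e.symm.toAlgHom e.symm.injective

/-- Regularity as a property. -/
def regularProp : FProp.{u} where
  P A B _ _ _ := CAlg.IsRegularHom A B
  of_regular _ _ _ _ _ _ _ h := h
  comp A B C _ _ _ _ _ _ _ _ _ h h' := FlatDepth.isRegularHom_comp A B C h h'
  of_comp A B C _ _ _ _ _ _ _ _ _ _ h := FlatDepth.isRegularHom_of_comp A B C h
  baseChange A B A' _ _ _ _ _ _ _ h := FlatDepth.isRegularHom_baseChange A B A' h
  of_stalks _ _ _ _ _ _ _ _ _ _ _ _ _ hs e h :=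
    ⟨inferInstance, fun P _ => ⟨FlatDepth.isNoetherianRing_fiber P,
      FlatDepth.isGeomRegular_fibre hs e (fun p _ => (h.2 p).2) P⟩⟩

/-- Normality as a property. -/
def normalProp : FProp.{u} where
  P A B _ _ _ := EGA4.IsNormalHom A B
  of_regular _ _ _ _ _ _ _ h := FlatDepth.isNormalHom_of_isRegularHom h
  comp A B C _ _ _ _ _ _ _ _ _ h h' := FlatDepth.isNormalHom_comp A B C h h'
  of_comp A B C _ _ _ _ _ _ _ _ _ _ h := FlatDepth.isNormalHom_of_comp A B C h
  baseChange A B A' _ _ _ _ _ _ _ h := FlatDepth.isNormalHom_baseChange A B A' h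
  of_stalks _ _ _ _ _ _ _ _ _ _ _ _ _ hs e h :=
    ⟨inferInstance, fun P _ => FlatDepth.isGeomNormal_fibre hs e (fun p _ => h.2 p) P⟩

/-- Geometric reducedness as a property. -/
def reducedProp : FProp.{u} where
  P A B _ _ _ := IsReducedHom A B
  of_regular _ _ _ _ _ _ _ h := ⟨h.1, fun p _ => FlatDepth.geomReduced_of_geomRegular (h.2 p).2⟩
  comp A B C _ _ _ _ _ _ _ _ _ h h' := by
    haveI := h.1; haveI := h'.1
    exact ⟨Module.Flat.trans A B C, fun p _ => FlatDepth.geomReducedFibres_comp A B C h.2 h'.2 p⟩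
  of_comp A B C _ _ _ _ _ _ _ _ _ _ h := by
    haveI := h.1
    exact ⟨FlatDepth.flat_of_comp A B C, fun p _ => FlatDepth.geomReducedFibres_of_comp A B C h.2 p⟩
  baseChange A B A' _ _ _ _ _ _ _ h := by
    haveI := h.1
    refine ⟨inferInstance, fun P _ => ?_⟩
    obtain ⟨p, _, _, -, ⟨e⟩⟩ := FlatDepth.exists_fibre_baseChange A B A' P
    exact geomReduced_of_algEquiv e (geomReduced_baseChange _ _ _ (h.2 p))
  of_stalks _ _ _ _ _ _ _ _ _ _ _ _ _ hs e h :=
    ⟨inferInstance, fun P _ => FlatDepth.isGeometricallyReduced_fibre hs e (fun p _ => h.2 p) P⟩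

namespace FProp

variable (Φ : FProp.{u})

/-- The property holds for the completion map of the local ring at `p`. -/
def GAt (A : Type u) [CommRing A] (p : Ideal A) [p.IsPrime] : Prop :=
  Φ.P (Localization.AtPrime p) (EGA4.Cpl (Localization.AtPrime p))

/-- All local rings satisfy it. -/
def GAll (A : Type u) [CommRing A] : Prop :=
  ∀ (p : Ideal A) [p.IsPrime], Φ.GAt A p

theorem gAll_of_isGRing (A : Type u) [CommRing A] (hA : CAlg.IsGRing A) : Φ.GAll A := fun p _ => by
  haveI := hA.1
  exact Φ.of_regular _ _ (hA.2 p)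

theorem of_localized_base (A A' B : Type u) [CommRing A] [CommRing A'] [CommRing B] [IsNoetherianRing B]
    [Algebra A A'] [Algebra A B] [Algebra A' B] [IsScalarTower A A' B] (M : Submonoid A) [IsLocalization M A']
    [Module.Flat A B] (h : Φ.P A B) : Φ.P A' B := by
  haveI := IsLocalization.tensorProduct_compatibleSMul M A' A' B
  let e : A' ⊗[A] B ≃ₐ[A'] B :=
    (Algebra.TensorProduct.equivOfCompatibleSMul A A' A' A' B).symm.trans (Algebra.TensorProduct.lid A' B)
  haveI : Module.Flat A' B := (Module.flat_iff_of_isLocalization A' M B).2 inferInstance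
  exact Φ.of_stalks A A' B B (RingHom.surjectiveOnStalks_of_isLocalization M _) e h

/-- The property of completion maps descends along homomorphisms having the property. -/
theorem gAt_descend (A B : Type u) [CommRing A] [CommRing B] [IsNoetherianRing A] [IsNoetherianRing B]
    [Algebra A B] [Module.Flat A B] (h : Φ.P A B) (Q : Ideal B) [Q.IsPrime] (p : Ideal A) [p.IsPrime]
    (hp : p = Q.comap (algebraMap A B)) (hQ : Φ.GAt B Q) : Φ.GAt A p := by
  haveI : Q.LiesOver p := ⟨hp⟩
  letI := Localization.AtPrime.algebraOfLiesOver p Q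
  haveI : IsLocalHom (algebraMap (Localization.AtPrime p) (Localization.AtPrime Q)) :=
    Localization.isLocalHom_localRingHom p Q (algebraMap A B) hp
  haveI : Module.Flat A (Localization.AtPrime Q) := Module.Flat.trans A B _
  haveI : Module.Flat (Localization.AtPrime p) (Localization.AtPrime Q) :=
    (Module.flat_iff_of_isLocalization (Localization.AtPrime p) p.primeCompl _).2 inferInstance
  have h1 : Φ.P A (Localization.AtPrime Q) :=
    Φ.comp A B (Localization.AtPrime Q) h (Φ.of_regular _ _ (isRegularHom_isLocalization B _ Q.primeCompl))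
  have h2 : Φ.P (Localization.AtPrime p) (Localization.AtPrime Q) := Φ.of_localized_base A _ _ p.primeCompl h1
  obtain ⟨_, _, hff⟩ := FlatDepth.exists_cpl_tower (Localization.AtPrime p) (Localization.AtPrime Q)
  haveI := hff inferInstance
  exact Φ.of_comp (Localization.AtPrime p) (EGA4.Cpl (Localization.AtPrime p)) (EGA4.Cpl (Localization.AtPrime Q))
    (Φ.comp _ (Localization.AtPrime Q) _ h2 hQ)

theorem gAll_of_ringEquiv {A B : Type u} [CommRing A] [CommRing B] [IsNoetherianRing B] (e : A ≃+* B)
    (hB : Φ.GAll B) : Φ.GAll A := fun p _ => by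
  haveI : IsNoetherianRing A := isNoetherianRing_of_ringEquiv B e.symm
  letI := e.toRingHom.toAlgebra
  haveI : (p.comap e.symm.toRingHom).IsPrime := Ideal.IsPrime.comap _
  have hr := GRing12.isRegularHom_of_bijective A B e.bijective
  haveI := hr.1
  exact Φ.gAt_descend A B (Φ.of_regular _ _ hr) (p.comap e.symm.toRingHom) p
    (Ideal.ext fun x => by simp [RingHom.algebraMap_toAlgebra]) (hB _)

theorem hom_cpl_atPrime (A : Type u) [CommRing A] [IsNoetherianRing A] (m : Ideal A) [m.IsPrime]
    (h : Φ.GAt A m) : Φ.P A (EGA4.Cpl (Localization.AtPrime m)) :=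
  Φ.comp A (Localization.AtPrime m) _ (Φ.of_regular _ _ (isRegularHom_isLocalization A _ m.primeCompl)) h

theorem gAll_of_maximal (A : Type u) [CommRing A] [IsNoetherianRing A]
    (h : ∀ (m : Ideal A) [m.IsMaximal], Φ.GAt A m) : Φ.GAll A := by
  intro p _
  obtain ⟨m, hm, hpm⟩ := Ideal.exists_le_maximal p (Ideal.IsPrime.ne_top ‹_›)
  let R := Localization.AtPrime m
  let T := EGA4.Cpl R
  have hdisj : Disjoint (m.primeCompl : Set A) (p : Set A) := Set.disjoint_left.2 fun x hx hxp => hx (hpm hxp)
  haveI : (p.map (algebraMap A R)).IsPrime := IsLocalization.isPrime_of_isPrime_disjoint m.primeCompl R p ‹_› hdisj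
  haveI : Module.FaithfullyFlat R T := CplLocH7.faithfullyFlat_cpl R
  haveI : Module.Flat A T := Module.Flat.trans A R T
  obtain ⟨⟨P, hP⟩, hcomap⟩ := PrimeSpectrum.comap_surjective_of_faithfullyFlat (A := R) (B := T)
    ⟨p.map (algebraMap A R), ‹_›⟩
  haveI := hP
  haveI : IsAdicComplete (maximalIdeal T) T := by
    rw [CplLocH7.maximalIdeal_cpl]
    exact (IsAdicComplete.map_algebraMap_iff _ _).2 (AdicCompletion.isAdicComplete (IsNoetherian.noetherian _))
  refine Φ.gAt_descend A T (Φ.hom_cpl_atPrime A m (h m)) P p ?_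
    (Φ.gAll_of_isGRing T (CplDomain.isGRing_of_complete T) P)
  rw [IsScalarTower.algebraMap_eq A R T, ← Ideal.comap_comap]
  rw [show Ideal.comap (algebraMap R T) P = p.map (algebraMap A R) from congrArg PrimeSpectrum.asIdeal hcomap]
  exact (IsLocalization.under_map_of_isPrime_disjoint m.primeCompl R ‹_› hdisj).symm

theorem gAll_polynomial (R : Type u) [CommRing R] [IsNoetherianRing R] (hR : Φ.GAll R) :
    Φ.GAll (Polynomial R) := by
  intro n _
  let m := n.comap (algebraMap R (Polynomial R))
  let Rm := Localization.AtPrime m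
  let T := EGA4.Cpl Rm
  haveI : IsAdicComplete (maximalIdeal T) T := by
    rw [CplLocH7.maximalIdeal_cpl]
    exact (IsAdicComplete.map_algebraMap_iff _ _).2 (AdicCompletion.isAdicComplete (IsNoetherian.noetherian _))
  haveI : Module.FaithfullyFlat Rm T := CplLocH7.faithfullyFlat_cpl Rm
  haveI : Module.Flat R T := Module.Flat.trans R Rm T
  have hreg : Φ.P R T := Φ.hom_cpl_atPrime R m (hR m)
  haveI : IsNoetherianRing (Polynomial R ⊗[R] T) :=
    FlatDepth.isNoetherianRing_baseChange R T (Polynomial R) (Or.inr inferInstance)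
  have hreg' : Φ.P (Polynomial R) (Polynomial R ⊗[R] T) := Φ.baseChange R T (Polynomial R) hreg
  let k := n.ResidueField
  letI : Algebra Rm k :=
    (IsLocalization.lift (M := m.primeCompl) (g := algebraMap R k) fun s => isUnit_iff_ne_zero.2 fun h => s.2 (by
      rw [IsScalarTower.algebraMap_apply R (Polynomial R) k, Ideal.algebraMap_residueField_eq_zero] at h
      exact h)).toAlgebra
  haveI : IsScalarTower R Rm k := .of_algebraMap_eq fun x => (IsLocalization.lift_eq _ x).symm
  haveI : Nontrivial (k ⊗[Rm] T) := Module.FaithfullyFlat.rTensor_nontrivial Rm T k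
  haveI := IsLocalization.tensorProduct_compatibleSMul m.primeCompl Rm k T
  haveI : Nontrivial (k ⊗[R] T) :=
    (Algebra.TensorProduct.equivOfCompatibleSMul R Rm k k T).symm.toEquiv.nontrivial
  obtain ⟨Q₀, hQ₀⟩ := Ideal.exists_maximal (k ⊗[R] T)
  let f : Polynomial R ⊗[R] T →ₐ[R] k ⊗[R] T :=
    Algebra.TensorProduct.map (IsScalarTower.toAlgHom R (Polynomial R) k) (AlgHom.id R T)
  haveI := hQ₀.isPrime
  let Q : Ideal (Polynomial R ⊗[R] T) := Q₀.comap f.toRingHom
  have hn : n = Q.comap (algebraMap (Polynomial R) (Polynomial R ⊗[R] T)) := by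
    ext x
    show x ∈ n ↔ f (x ⊗ₜ[R] (1 : T)) ∈ Q₀
    rw [Algebra.TensorProduct.map_tmul, map_one]
    show x ∈ n ↔ (algebraMap k (k ⊗[R] T)) (algebraMap (Polynomial R) k x) ∈ Q₀
    refine ⟨fun hx => ?_, fun hx => ?_⟩
    · rw [Ideal.algebraMap_residueField_eq_zero.2 hx, map_zero]
      exact zero_mem _
    · by_contra hxn
      refine hQ₀.ne_top (Ideal.eq_top_of_isUnit_mem _ hx (IsUnit.map _ (isUnit_iff_ne_zero.2 fun h => hxn ?_)))
      exact Ideal.algebraMap_residueField_eq_zero.1 h
  have hG : Φ.GAll (Polynomial R ⊗[R] T) :=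
    Φ.gAll_of_ringEquiv ((Algebra.TensorProduct.comm R (Polynomial R) T).toRingEquiv.trans
      (polyEquivTensor R T).symm.toRingEquiv)
      (Φ.gAll_of_isGRing _ (CplDomain.isGRing_polynomial_of_complete T))
  exact Φ.gAt_descend (Polynomial R) (Polynomial R ⊗[R] T) hreg' Q n hn (hG Q)

theorem gAll_mvPolynomial (R : Type u) [CommRing R] [IsNoetherianRing R] (hR : Φ.GAll R) :
    ∀ n : ℕ, Φ.GAll (MvPolynomial (Fin n) R)
  | 0 => Φ.gAll_of_ringEquiv (MvPolynomial.isEmptyRingEquiv R (Fin 0)) hR
  | n + 1 => Φ.gAll_of_ringEquiv (MvPolynomial.finSuccEquiv R n).toRingEquiv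
      (Φ.gAll_polynomial _ (gAll_mvPolynomial R hR n))

theorem gAll_of_surjective (A B : Type u) [CommRing A] [CommRing B] [IsNoetherianRing A] [Algebra A B]
    (hs : Function.Surjective (algebraMap A B)) (hA : Φ.GAll A) : Φ.GAll B := by
  haveI : IsNoetherianRing B := isNoetherianRing_of_surjective A B (algebraMap A B) hs
  intro p _
  let n := p.comap (algebraMap A B)
  haveI : p.LiesOver n := ⟨rfl⟩
  letI := Localization.AtPrime.algebraOfLiesOver n p
  have hs' : Function.Surjective (algebraMap (Localization.AtPrime n) (Localization.AtPrime p)) := fun x => by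
    obtain ⟨a, s, rfl⟩ := IsLocalization.exists_mk'_eq p.primeCompl x
    obtain ⟨r, rfl⟩ := hs a
    obtain ⟨t, ht⟩ := hs (s : B)
    refine ⟨IsLocalization.mk' _ r (⟨t, fun h => s.2 (ht ▸ h)⟩ : n.primeCompl), ?_⟩
    show Localization.localRingHom n p (algebraMap A B) _ _ = _
    rw [Localization.localRingHom_mk']
    congr 1
    exact Subtype.ext ht
  haveI := CplLocH7.faithfullyFlat_cpl (Localization.AtPrime p)
  exact Φ.of_stalks (Localization.AtPrime n) (Localization.AtPrime p) _ _
    (RingHom.surjectiveOnStalks_of_surjective hs')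
    (FlatDepth.cplSurjEquiv (Localization.AtPrime n) (Localization.AtPrime p) hs') (hA n)

theorem gAll_of_finiteType (R S : Type u) [CommRing R] [CommRing S] [IsNoetherianRing R] [Algebra R S]
    [Algebra.FiniteType R S] (hR : Φ.GAll R) : Φ.GAll S := by
  obtain ⟨n, f, hf⟩ := Algebra.FiniteType.iff_quotient_mvPolynomial''.1 ‹Algebra.FiniteType R S›
  letI := f.toRingHom.toAlgebra
  exact Φ.gAll_of_surjective (MvPolynomial (Fin n) R) S hf (Φ.gAll_mvPolynomial R hR n)

theorem gAll_of_isLocalization (A B : Type u) [CommRing A] [CommRing B] [IsNoetherianRing A] [Algebra A B]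
    (M : Submonoid A) [IsLocalization M B] (hA : Φ.GAll A) : Φ.GAll B := by
  haveI : IsNoetherianRing B := IsLocalization.isNoetherianRing M B inferInstance
  intro q _
  haveI : IsLocalization.AtPrime (Localization.AtPrime q) (q.comap (algebraMap A B)) :=
    IsLocalization.isLocalization_isLocalization_atPrime_isLocalization M (Localization.AtPrime q) q
  let p := q.comap (algebraMap A B)
  let e : Localization.AtPrime p ≃+* Localization.AtPrime q :=
    (IsLocalization.algEquiv p.primeCompl _ _).toRingEquiv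
  letI := e.symm.toRingHom.toAlgebra
  haveI : IsLocalHom (algebraMap (Localization.AtPrime q) (Localization.AtPrime p)) :=
    (inferInstance : IsLocalHom (e.symm : Localization.AtPrime q →+* Localization.AtPrime p))
  have hr := GRing12.isRegularHom_of_bijective (Localization.AtPrime q) (Localization.AtPrime p) e.symm.bijective
  haveI := hr.1
  obtain ⟨_, _, hff⟩ := FlatDepth.exists_cpl_tower (Localization.AtPrime q) (Localization.AtPrime p)
  haveI := hff inferInstance
  exact Φ.of_comp (Localization.AtPrime q) (EGA4.Cpl (Localization.AtPrime q)) (EGA4.Cpl (Localization.AtPrime p))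
    (Φ.comp _ (Localization.AtPrime p) _ (Φ.of_regular _ _ hr) (hA p))

theorem gAll_of_essFiniteType (R S : Type u) [CommRing R] [CommRing S] [IsNoetherianRing R] [Algebra R S]
    [Algebra.EssFiniteType R S] (hR : Φ.GAll R) : Φ.GAll S := by
  haveI : IsNoetherianRing (Algebra.EssFiniteType.subalgebra R S) :=
    Algebra.FiniteType.isNoetherianRing R _
  exact Φ.gAll_of_isLocalization (Algebra.EssFiniteType.subalgebra R S) S (Algebra.EssFiniteType.submonoid R S)
    (Φ.gAll_of_finiteType R (Algebra.EssFiniteType.subalgebra R S) hR)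

/-- A local ring: the property of the completion map of the ring itself suffices. -/
theorem gAll_of_local (A : Type u) [CommRing A] [IsLocalRing A] [IsNoetherianRing A]
    (h : Φ.P A (EGA4.Cpl A)) : Φ.GAll A := by
  refine Φ.gAll_of_maximal A fun m hm => ?_
  obtain rfl := IsLocalRing.eq_maximalIdeal hm
  haveI : IsLocalization.AtPrime A (maximalIdeal A) :=
    IsLocalization.self (fun x hx => notMem_maximalIdeal.1 hx)
  let e : Localization.AtPrime (maximalIdeal A) ≃+* A :=
    (IsLocalization.algEquiv (maximalIdeal A).primeCompl _ A).toRingEquiv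
  letI := e.toRingHom.toAlgebra
  haveI : IsLocalHom (algebraMap (Localization.AtPrime (maximalIdeal A)) A) :=
    (inferInstance : IsLocalHom (e : Localization.AtPrime (maximalIdeal A) →+* A))
  have hr := GRing12.isRegularHom_of_bijective (Localization.AtPrime (maximalIdeal A)) A e.bijective
  haveI := hr.1
  obtain ⟨_, _, hff⟩ := FlatDepth.exists_cpl_tower (Localization.AtPrime (maximalIdeal A)) A
  haveI := hff inferInstance
  exact Φ.of_comp _ (EGA4.Cpl (Localization.AtPrime (maximalIdeal A))) (EGA4.Cpl A)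
    (Φ.comp _ A _ (Φ.of_regular _ _ hr) h)

/-- Conversely. -/
theorem hom_cpl_of_gAll (A : Type u) [CommRing A] [IsLocalRing A] [IsNoetherianRing A] (h : Φ.GAll A) :
    Φ.P A (EGA4.Cpl A) := by
  haveI : IsLocalization.AtPrime A (maximalIdeal A) :=
    IsLocalization.self (fun x hx => notMem_maximalIdeal.1 hx)
  let e : Localization.AtPrime (maximalIdeal A) ≃+* A :=
    (IsLocalization.algEquiv (maximalIdeal A).primeCompl _ A).toRingEquiv
  letI := e.symm.toRingHom.toAlgebra
  haveI : IsLocalHom (algebraMap A (Localization.AtPrime (maximalIdeal A))) :=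
    (inferInstance : IsLocalHom (e.symm : A →+* Localization.AtPrime (maximalIdeal A)))
  have hr := GRing12.isRegularHom_of_bijective A (Localization.AtPrime (maximalIdeal A)) e.symm.bijective
  haveI := hr.1
  obtain ⟨_, _, hff⟩ := FlatDepth.exists_cpl_tower A (Localization.AtPrime (maximalIdeal A))
  haveI := hff inferInstance
  exact Φ.of_comp A (EGA4.Cpl A) (EGA4.Cpl (Localization.AtPrime (maximalIdeal A)))
    (Φ.comp _ (Localization.AtPrime (maximalIdeal A)) _ (Φ.of_regular _ _ hr) (h _))

end FProp

theorem reducedProp_cpl_iff (A : Type u) [CommRing A] [IsLocalRing A] [IsNoetherianRing A] :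
    reducedProp.P A (EGA4.Cpl A) ↔ EGA4.HasGeomReducedFormalFibres A :=
  ⟨fun h p _ => h.2 p, fun h => ⟨(CplLocH7.faithfullyFlat_cpl A).toFlat, fun p _ => h p⟩⟩

theorem normalProp_cpl_iff (A : Type u) [CommRing A] [IsLocalRing A] [IsNoetherianRing A] :
    normalProp.P A (EGA4.Cpl A) ↔ EGA4.HasGeomNormalFormalFibres A :=
  ⟨fun h p _ => h.2 p, fun h => ⟨(CplLocH7.faithfullyFlat_cpl A).toFlat, fun p _ => h p⟩⟩

theorem reducedProp_gAll_iff (A : Type u) [CommRing A] [IsNoetherianRing A] :
    reducedProp.GAll A ↔ ∀ (p : Ideal A) [p.IsPrime], EGA4.HasGeomReducedFormalFibres (Localization.AtPrime p) :=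
  ⟨fun h p _ => (reducedProp_cpl_iff _).1 (h p), fun h p _ => (reducedProp_cpl_iff _).2 (h p)⟩

theorem normalProp_gAll_iff (A : Type u) [CommRing A] [IsNoetherianRing A] :
    normalProp.GAll A ↔ ∀ (p : Ideal A) [p.IsPrime], EGA4.HasGeomNormalFormalFibres (Localization.AtPrime p) :=
  ⟨fun h p _ => (normalProp_cpl_iff _).1 (h p), fun h p _ => (normalProp_cpl_iff _).2 (h p)⟩

end Groth.Agent.GRing6
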