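import Groth.Agent.Lib.GRing6.FiniteCrit
import Groth.Agent.Lib.GRing6.FProp
import Groth.Agent.Lib.CAlgLow.UJap
import Groth.Agent.Lib.CAlgLow.AnUnram
import Groth.Agent.Lib.CplDomain.Nagata
import Groth.Agent.Lib.FlatDepth.RingFib
import Groth.Agent.S2072
import Mathlib

/-! # Geometrically reduced formal fibres and the Nagata property -/

set_option autoImplicit false
set_option linter.style.haveILetI false
universe u

open IsLocalRing TensorProduct

namespace Groth.Agent.GRing6

noncomputable local instance (priority := high) cplAlgebra4 (A : Type u) [CommRing A] [IsLocalRing A] :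
    Algebra A (EGA4.Cpl A) :=
  AdicCompletion.instAlgebra _

theorem isReduced_cpl (A : Type u) [CommRing A] [IsLocalRing A] [IsNoetherianRing A] [IsReduced A]
    (h : reducedProp.P A (EGA4.Cpl A)) : IsReduced (EGA4.Cpl A) := by
  haveI := h.1
  exact FlatDepth.reduced_of_flat_fibres (A := A) fun p _ =>
    haveI := h.2 p
    Algebra.isReduced_of_isGeometricallyReduced p.ResidueField

/-- Reduced formal fibres everywhere and J-2 imply universally Japanese. -/
theorem isUniversallyJapanese_of_gAll (A : Type u) [CommRing A] [IsNoetherianRing A] (h : reducedProp.GAll A)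
    (hJ : EGA4.IsJ2 A) : CAlg.IsUniversallyJapanese A := by
  refine CAlgLow.isUniversallyJapanese_of_forall_isN1 A fun S _ _ _ hS => ?_
  haveI := hS
  haveI : IsNoetherianRing S := Algebra.FiniteType.isNoetherianRing A S
  have hG : reducedProp.GAll S := reducedProp.gAll_of_finiteType A S h
  have hop : IsOpen (EGA4.regLocus S) := hJ S hS
  have hgen : (⟨⊥, Ideal.isPrime_bot⟩ : PrimeSpectrum S) ∈ EGA4.regLocus S := by
    show IsRegularLocalRing (Localization.AtPrime (⊥ : Ideal S))
    haveI : IsFractionRing S (Localization.AtPrime (⊥ : Ideal S)) := by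
      have : (⊥ : Ideal S).primeCompl = nonZeroDivisors S := by
        ext x; simp [mem_nonZeroDivisors_iff_ne_zero, Ideal.primeCompl]
      show IsLocalization (nonZeroDivisors S) _
      rw [← this]
      infer_instance
    haveI : IsRegularRing (FractionRing S) := inferInstance
    haveI : IsRegularRing (Localization.AtPrime (⊥ : Ideal S)) :=
      IsRegularRing.of_ringEquiv (FractionRing.algEquiv S (Localization.AtPrime (⊥ : Ideal S))).toRingEquiv
    exact IsRegularLocalRing.of_isRegularRing_of_isLocalRing _
  obtain ⟨_, ⟨f, rfl⟩, hfmem, hsub⟩ := PrimeSpectrum.isTopologicalBasis_basic_opens.exists_subset_of_mem_open hgen hop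
  have hf : f ≠ 0 := fun h0 => hfmem (by rw [h0]; exact Submodule.zero_mem _)
  haveI : IsDomain (Localization.Away f) :=
    IsLocalization.isDomain_localization (powers_le_nonZeroDivisors_of_noZeroDivisors hf)
  refine isN1_of_away_of_local S f hf ?_ fun m _ => ?_
  · refine IsIntegrallyClosed.of_localization_maximal fun q _ hq => ?_
    have hq' : (⟨q, hq.isPrime⟩ : PrimeSpectrum (Localization.Away f)) ∈ EGA4.regLocus (Localization.Away f) := by
      rw [regLocus_isLocalization S (Localization.Away f) (Submonoid.powers f)]
      refine hsub fun hfq => hq.ne_top (Ideal.eq_top_of_isUnit_mem _ hfq (IsLocalization.Away.algebraMap_isUnit f))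
    haveI : IsRegularLocalRing (Localization.AtPrime q) := hq'
    haveI := RegLoc.isDomain (Localization.AtPrime q)
    haveI := RegLoc.ufd_of_isRegularLocalRing (Localization.AtPrime q)
    infer_instance
  · haveI : IsReduced (EGA4.Cpl (Localization.AtPrime m)) := isReduced_cpl _ (hG m)
    exact Groth.Agent.S2072.result

theorem isNagata_of_gAll (A : Type u) [CommRing A] [IsNoetherianRing A] (h : reducedProp.GAll A)
    (hJ : EGA4.IsJ2 A) : CAlg.IsNagata A :=
  ⟨inferInstance, fun p _ => isUniversallyJapanese_of_gAll A h hJ (A ⧸ p) inferInstance⟩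

/-- A local domain with geometrically reduced formal fibres is N-2. -/
theorem isN2_of_local_domain (A : Type u) [CommRing A] [IsDomain A] [IsLocalRing A] [IsNoetherianRing A]
    (h : reducedProp.P A (EGA4.Cpl A)) : CAlg.IsN2 A := by
  haveI : Module.FaithfullyFlat A (EGA4.Cpl A) := CplLocH7.faithfullyFlat_cpl A
  haveI : IsNoetherianRing (EGA4.Cpl A) := CplLocH7.isNoetherianRing_cpl A
  let C := EGA4.Cpl A
  let R := FractionRing C
  intro K' _ _ _ _ hfin
  haveI := hfin
  let κ := (⊥ : Ideal A).ResidueField
  have hinj : Function.Injective (algebraMap A K') := by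
    rw [IsScalarTower.algebraMap_eq A (FractionRing A) K']
    exact (algebraMap (FractionRing A) K').injective.comp (IsFractionRing.injective A (FractionRing A))
  letI : Algebra κ K' := (IsFractionRing.lift hinj).toAlgebra
  haveI : IsScalarTower A κ K' := .of_algebraMap_eq fun x => (IsFractionRing.lift_algebraMap hinj x).symm
  haveI : Algebra.IsAlgebraic κ K' := by
    haveI : Algebra.IsAlgebraic (FractionRing A) K' := Algebra.IsAlgebraic.of_finite _ _
    haveI : Algebra.IsAlgebraic A K' := (IsFractionRing.comap_isAlgebraic_iff (A := A) (K := FractionRing A) (C := K')).2 inferInstance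
    exact (IsFractionRing.comap_isAlgebraic_iff (A := A) (K := κ) (C := K')).1 inferInstance
  haveI := h.2 (⊥ : Ideal A)
  haveI : IsReduced (K' ⊗[A] C) :=
    isReduced_of_injective (Algebra.TensorProduct.cancelBaseChange A κ κ K' C).symm.toRingEquiv.toRingHom
      (RingEquiv.injective _)
  haveI : IsReduced (C ⊗[A] K') :=
    isReduced_of_injective (Algebra.TensorProduct.comm A C K') (AlgEquiv.injective _)
  haveI : IsReduced (R ⊗[A] K') := by
    haveI : IsReduced ((C ⊗[A] K') ⊗[C] R) :=
      isReduced_localizationPreserves (Algebra.algebraMapSubmonoid (C ⊗[A] K') (nonZeroDivisors C)) ((C ⊗[A] K') ⊗[C] R) ‹_›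
    let e : R ⊗[A] K' ≃+* (C ⊗[A] K') ⊗[C] R :=
      (Algebra.TensorProduct.cancelBaseChange A C C R K').symm.toRingEquiv.trans
        (Algebra.TensorProduct.comm C R (C ⊗[A] K')).toRingEquiv
    exact isReduced_of_injective e e.injective
  exact AnUnram.finite_integralClosure_of_isReduced_fibre C (CplDomain.isNagata_of_complete _) (nonZeroDivisors _) R
    (IsFractionRing.injective _ R) (fun a ha => AnUnram.isUnit_algebraMap_of_flat C R a ha) K'

theorem isNagata_of_local (A : Type u) [CommRing A] [IsLocalRing A] [IsNoetherianRing A]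
    (h : EGA4.HasGeomReducedFormalFibres A) : CAlg.IsNagata A :=
  ⟨inferInstance, fun p _ => isN2_of_local_domain (A ⧸ p) (reducedProp.hom_cpl_of_gAll _
    (reducedProp.gAll_of_surjective A (A ⧸ p) Ideal.Quotient.mk_surjective
      (reducedProp.gAll_of_local A ((reducedProp_cpl_iff A).2 h))))⟩

end Groth.Agent.GRing6
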