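import Groth.Agent.Lib.GRing6.Permanence
import Mathlib

/-! # G-rings and the generic formal fibres of local domains -/

set_option autoImplicit false
set_option linter.style.haveILetI false
universe u

open IsLocalRing TensorProduct

namespace Groth.Agent.GRing6

/-- Geometric regularity of a fibre descends along a map surjective on stalks. -/
theorem isGeomRegular_fibre_of_comap {A A' B B' : Type u} [CommRing A] [CommRing A'] [CommRing B] [CommRing B']
    [Algebra A A'] [Algebra A B] [Algebra A' B'] (hs : (algebraMap A A').SurjectiveOnStalks)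
    (e : A' ⊗[A] B ≃ₐ[A'] B') (P : Ideal A') [P.IsPrime]
    (h : CAlg.IsGeometricallyRegular P.ResidueField (P.Fiber B')) :
    CAlg.IsGeometricallyRegular (P.comap (algebraMap A A')).ResidueField ((P.comap (algebraMap A A')).Fiber B) := by
  intro K _ _ hK
  let p := P.comap (algebraMap A A')
  obtain ⟨r, hr⟩ := FlatDepth.exists_residueEquiv hs P
  letI : Algebra p.ResidueField P.ResidueField := r.toRingHom.toAlgebra
  letI : Algebra P.ResidueField K := ((algebraMap p.ResidueField K).comp r.symm.toRingHom).toAlgebra
  haveI : IsScalarTower p.ResidueField P.ResidueField K := .of_algebraMap_eq fun x => by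
    show _ = algebraMap p.ResidueField K (r.symm (r x))
    rw [r.symm_apply_apply]
  haveI : Module.Finite P.ResidueField K := Module.Finite.of_restrictScalars_finite p.ResidueField _ _
  letI : Algebra A' K := ((algebraMap P.ResidueField K).comp (algebraMap A' P.ResidueField)).toAlgebra
  haveI : IsScalarTower A' P.ResidueField K := .of_algebraMap_eq fun _ => rfl
  letI : Algebra A K := ((algebraMap A' K).comp (algebraMap A A')).toAlgebra
  haveI : IsScalarTower A A' K := .of_algebraMap_eq fun _ => rfl
  haveI : IsScalarTower A p.ResidueField K := .of_algebraMap_eq fun a => by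
    show algebraMap p.ResidueField K (r.symm (algebraMap A' P.ResidueField (algebraMap A A' a))) = _
    rw [← hr, r.symm_apply_apply]
  haveI : IsRegularRing (K ⊗[P.ResidueField] P.Fiber B') := h K inferInstance
  exact IsRegularRing.of_ringEquiv (R := K ⊗[P.ResidueField] P.Fiber B') (FlatDepth.fiberBaseChangeEquiv e p P K)

/-- A Noetherian ring is a G-ring iff the generic formal fibres of the local rings of its prime quotients are
geometrically regular. -/
theorem isGRing_iff_domains (R : Type u) [CommRing R] [IsNoetherianRing R] :
    CAlg.IsGRing R ↔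
      ∀ (q : Ideal R) [q.IsPrime] (P : Ideal (R ⧸ q)) [P.IsPrime],
        CAlg.IsGeometricallyRegular (⊥ : Ideal (Localization.AtPrime P)).ResidueField
          (EGA4.formalFibre (Localization.AtPrime P) (⊥ : Ideal (Localization.AtPrime P))) := by
  constructor
  · intro h q _ P _
    exact (((isGRing_of_surjective R (R ⧸ q) Ideal.Quotient.mk_surjective h).2 P).2 ⊥).2
  · intro h
    refine ⟨inferInstance, fun p _ => ?_⟩
    haveI := CplLocH7.faithfullyFlat_cpl (Localization.AtPrime p)
    refine ⟨inferInstance, fun Q _ => ⟨FlatDepth.isNoetherianRing_fiber Q, ?_⟩⟩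
    let q := Q.comap (algebraMap R (Localization.AtPrime p))
    have hqp : q ≤ p := by
      intro x hx
      by_contra hxp
      exact (inferInstance : Q.IsPrime).ne_top
        (Ideal.eq_top_of_isUnit_mem _ hx (IsLocalization.map_units (Localization.AtPrime p) (⟨x, hxp⟩ : p.primeCompl)))
    let P := p.map (Ideal.Quotient.mk q)
    haveI : P.IsPrime := Ideal.map_isPrime_of_surjective Ideal.Quotient.mk_surjective (by rwa [Ideal.mk_ker])
    have hP : P.comap (algebraMap R (R ⧸ q)) = p := by
      rw [Ideal.Quotient.algebraMap_eq, Ideal.comap_map_of_surjective _ Ideal.Quotient.mk_surjective,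
        ← RingHom.ker_eq_comap_bot, Ideal.mk_ker, sup_eq_left]
      exact hqp
    haveI : P.LiesOver p := ⟨hP.symm⟩
    let L := Localization.AtPrime P
    letI := Localization.AtPrime.algebraOfLiesOver p P
    have hs' : Function.Surjective (algebraMap (Localization.AtPrime p) L) := fun x => by
      obtain ⟨a, s, rfl⟩ := IsLocalization.exists_mk'_eq P.primeCompl x
      obtain ⟨r, rfl⟩ := Ideal.Quotient.mk_surjective a
      obtain ⟨t, ht⟩ := Ideal.Quotient.mk_surjective (s : R ⧸ q)
      refine ⟨IsLocalization.mk' _ r (⟨t, fun h => s.2 (ht ▸ Ideal.mem_map_of_mem _ h)⟩ : p.primeCompl), ?_⟩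
      show Localization.localRingHom p P (algebraMap R (R ⧸ q)) _ _ = _
      rw [Localization.localRingHom_mk']
      congr 1
      exact Subtype.ext ht
    haveI : IsDomain L := IsLocalization.isDomain_localization P.primeCompl_le_nonZeroDivisors
    have hQ : (⊥ : Ideal L).comap (algebraMap (Localization.AtPrime p) L) = Q := by
      rw [← IsLocalization.map_under p.primeCompl (Localization.AtPrime p) ((⊥ : Ideal L).comap _),
        ← IsLocalization.map_under p.primeCompl (Localization.AtPrime p) Q]
      congr 1
      show ((⊥ : Ideal L).comap (algebraMap (Localization.AtPrime p) L)).comap (algebraMap R (Localization.AtPrime p)) = q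
      rw [Ideal.comap_comap, ← IsScalarTower.algebraMap_eq, IsScalarTower.algebraMap_eq R (R ⧸ q) L, ← Ideal.comap_comap,
        ← RingHom.ker_eq_comap_bot (algebraMap (R ⧸ q) L), (RingHom.injective_iff_ker_eq_bot _).1
          (IsLocalization.injective L P.primeCompl_le_nonZeroDivisors)]
      exact (RingHom.ker_eq_comap_bot _).symm.trans Ideal.mk_ker
    have key : ∀ (Q' : Ideal (Localization.AtPrime p)) [Q'.IsPrime], Q' = Q →
        CAlg.IsGeometricallyRegular Q'.ResidueField (Q'.Fiber (EGA4.Cpl (Localization.AtPrime p))) →
        CAlg.IsGeometricallyRegular Q.ResidueField (Q.Fiber (EGA4.Cpl (Localization.AtPrime p))) := by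
      intro Q' _ e hh; subst e; exact hh
    refine key _ hQ ?_
    exact isGeomRegular_fibre_of_comap (RingHom.surjectiveOnStalks_of_surjective hs')
      (FlatDepth.cplSurjEquiv (Localization.AtPrime p) L hs') (⊥ : Ideal L) (h q P)

end Groth.Agent.GRing6
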