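import Groth.Agent.Lib.GRing6.Permanence
import Groth.Agent.Lib.GRing6.DomainCrit
import Groth.Agent.Lib.CAlgLow.GeomReg
import Mathlib

/-! # Regularity and algebras whose fibres are products of separable field extensions -/

set_option autoImplicit false
set_option linter.style.haveILetI false
universe u

open IsLocalRing TensorProduct

namespace Groth.Agent.GRing6

/-- Geometric regularity passes up separable algebraic extensions of the base field. -/
theorem geomRegular_up_separable {k K : Type u} [Field k] [Field K] [Algebra k K] [Algebra.IsSeparable k K]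
    (T : Type u) [CommRing T] [IsNoetherianRing T] [Algebra K T] [Algebra k T] [IsScalarTower k K T]
    (h : CAlg.IsGeometricallyRegular k T) : CAlg.IsGeometricallyRegular K T := by
  intro k' _ _ hk'
  haveI := hk'
  let b := Module.finBasis K k'
  let cset : Set K := Set.range (fun x : Fin (Module.finrank K k') × Fin (Module.finrank K k') × Fin (Module.finrank K k') =>
      b.repr (b x.1 * b x.2.1) x.2.2) ∪ Set.range fun l => b.repr 1 l
  let K0 : IntermediateField k K := IntermediateField.adjoin k cset
  haveI : Finite cset := (((Set.finite_range _).union (Set.finite_range _))).to_subtype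
  haveI : FiniteDimensional k K0 :=
    IntermediateField.finiteDimensional_adjoin fun x _ => Algebra.IsIntegral.isIntegral x
  let V : Submodule K0 k' := Submodule.span K0 (Set.range b)
  have hmem : ∀ x : k', (∀ l, b.repr x l ∈ K0) → x ∈ V := fun x hx => by
    rw [← b.sum_repr x]
    exact Submodule.sum_mem _ fun l _ => V.smul_mem (⟨_, hx l⟩ : K0) (Submodule.subset_span ⟨l, rfl⟩)
  have h1 : (1 : k') ∈ V := hmem 1 fun l => IntermediateField.subset_adjoin k _ (Or.inr ⟨l, rfl⟩)
  have hmul : ∀ x y, x ∈ V → y ∈ V → x * y ∈ V := fun x y hx hy => by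
    have hle : V * V ≤ V := by
      show Submodule.span K0 (Set.range b) * Submodule.span K0 (Set.range b) ≤ _
      rw [Submodule.span_mul_span, Submodule.span_le]
      rintro _ ⟨_, ⟨i, rfl⟩, _, ⟨j, rfl⟩, rfl⟩
      exact hmem _ fun l => IntermediateField.subset_adjoin k _ (Or.inl ⟨(i, j, l), rfl⟩)
    exact hle (Submodule.mul_mem_mul hx hy)
  let k0 : Subalgebra K0 k' := V.toSubalgebra h1 hmul
  haveI : Module.Finite K0 k0 := Module.Finite.iff_fg.2 (Submodule.fg_span (Set.finite_range b) : V.FG)
  haveI : Algebra.IsIntegral K0 k0 := Algebra.IsIntegral.of_finite _ _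
  letI : Field k0 := (isField_of_isIntegral_of_isField' (R := K0) (Field.toIsField _)).toField
  haveI : Module.Free K0 k0 := Module.Free.of_divisionRing K0 k0
  let Φ : K ⊗[K0] k0 →ₐ[K] k' := Algebra.TensorProduct.lift (Algebra.ofId K k') k0.val fun _ _ => Commute.all _ _
  have hsurj : Function.Surjective Φ := fun x => by
    refine ⟨∑ l, b.repr x l ⊗ₜ[K0] (⟨b l, Submodule.subset_span ⟨l, rfl⟩⟩ : k0), ?_⟩
    rw [map_sum]
    conv_rhs => rw [← b.sum_repr x]
    exact Finset.sum_congr rfl fun l _ => (Algebra.TensorProduct.lift_tmul _ _ _ _ _).trans (Algebra.smul_def _ _).symm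
  have hrank : Module.finrank K (K ⊗[K0] k0) ≤ Module.finrank K k' := by
    rw [Module.finrank_baseChange]
    calc Module.finrank K0 k0 = Module.finrank K0 V := rfl
      _ ≤ Fintype.card (Fin (Module.finrank K k')) := finrank_range_le_card b
      _ = Module.finrank K k' := Fintype.card_fin _
  have hinj : Function.Injective Φ :=
    (LinearMap.injective_iff_surjective_of_finrank_eq_finrank (f := Φ.toLinearMap)
      (le_antisymm hrank (Φ.toLinearMap.finrank_le_finrank_of_surjective hsurj))).2 hsurj
  let e : K ⊗[K0] k0 ≃ₐ[K] k' := AlgEquiv.ofBijective Φ ⟨hinj, hsurj⟩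
  have hT : CAlg.IsGeometricallyRegular K0 T := CAlgLow.geomRegular_up_finite T h
  haveI : IsRegularRing (k0 ⊗[K0] T) := hT k0 inferInstance
  exact IsRegularRing.of_ringEquiv
    (((Algebra.TensorProduct.comm K0 k0 T).toRingEquiv.trans
      (Algebra.TensorProduct.cancelBaseChange K0 K K T k0).symm.toRingEquiv).trans
      ((Algebra.TensorProduct.congr (AlgEquiv.refl : T ≃ₐ[K] T) e).toRingEquiv.trans
        (Algebra.TensorProduct.comm K T k').toRingEquiv))

/-- A reduced Noetherian algebra integral over a field is regular. -/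
theorem isRegularRing_of_integral_reduced (k T : Type u) [Field k] [CommRing T] [IsReduced T] [IsNoetherianRing T]
    [Algebra k T] [Algebra.IsIntegral k T] : IsRegularRing T := by
  rw [isRegularRing_iff]
  intro P _
  haveI : IsReduced (Localization.AtPrime P) := isReduced_localizationPreserves P.primeCompl _ inferInstance
  have hP : P ∈ minimalPrimes T := ⟨⟨inferInstance, bot_le⟩, fun Q hQ hle => by
    haveI : Q.IsPrime := hQ.1
    haveI : Q.IsMaximal := Ideal.isMaximal_of_isIntegral_of_isMaximal_comap (R := k) Q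
      ((Ideal.eq_bot_of_prime (Q.comap (algebraMap k T))).symm ▸ Ideal.bot_isMaximal)
    exact (Ideal.IsMaximal.eq_of_le ‹Q.IsMaximal› (Ideal.IsPrime.ne_top inferInstance) hle).ge⟩
  haveI : Ring.KrullDimLE 0 (Localization.AtPrime P) := Ring.krullDimLE_iff.2 (by
    rw [IsLocalization.AtPrime.ringKrullDim_eq_height P, Ideal.height_eq_zero_iff.2 hP]; rfl)
  refine IsRegularLocalRing.of_spanFinrank_maximalIdeal_le _ ?_
  rw [isField_iff_maximalIdeal_eq.1 Ring.KrullDimLE.isField_of_isReduced]
  simpa using ringKrullDim_nonneg_of_nontrivial (R := Localization.AtPrime P)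

section Pi

variable {k FB : Type u} [Field k] [CommRing FB] [Algebra k FB] {n : ℕ} {Ki : Fin n → Type u}
  [∀ i, Field (Ki i)] [∀ i, Algebra k (Ki i)] [∀ i, Algebra.IsSeparable k (Ki i)]

/-- Base changes of finite products of separable extensions are regular. -/
theorem geomRegular_of_pi (e : FB ≃ₐ[k] Π i, Ki i) [IsNoetherianRing FB] : CAlg.IsGeometricallyRegular k FB := by
  intro K _ _ hK
  haveI := hK
  haveI : ∀ i, IsReduced (K ⊗[k] Ki i) := fun i => by
    haveI : Algebra.FormallyEtale k (Ki i) := Algebra.FormallyEtale.of_isSeparable k (Ki i)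
    haveI : Algebra.IsGeometricallyReduced k (Ki i) :=
      (Sep.formallySmooth_iff_isGeometricallyReduced k (Ki i)).1 inferInstance
    haveI : Algebra.IsAlgebraic k K := Algebra.IsAlgebraic.of_finite k K
    infer_instance
  classical
  haveI : IsReduced (K ⊗[k] FB) := by
    let ψ := Algebra.TensorProduct.congr (AlgEquiv.refl : K ≃ₐ[k] K) e
    let π := Algebra.TensorProduct.piRight k k K Ki
    exact isReduced_of_injective (ψ.trans π) (ψ.trans π).injective
  haveI : Algebra.IsIntegral k (Π i, Ki i) := ⟨fun x =>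
    ⟨∏ i, minpoly k (x i), Polynomial.monic_prod_of_monic _ _ fun i _ => minpoly.monic (Algebra.IsIntegral.isIntegral (x i)), by
      rw [← Polynomial.aeval_def]
      funext j
      show (Pi.evalAlgHom k Ki j) (Polynomial.aeval x (∏ i, minpoly k (x i))) = 0
      rw [← Polynomial.aeval_algHom_apply, map_prod]
      exact Finset.prod_eq_zero (Finset.mem_univ j) (minpoly.aeval k (x j))⟩⟩
  haveI : Algebra.IsIntegral k FB :=
    ⟨fun x => by simpa using (Algebra.IsIntegral.isIntegral (R := k) (e x)).map e.symm⟩
  haveI : IsNoetherianRing (K ⊗[k] FB) :=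
    haveI : IsNoetherianRing (FB ⊗[k] K) := Algebra.FiniteType.isNoetherianRing FB (FB ⊗[k] K)
    isNoetherianRing_of_ringEquiv _ (Algebra.TensorProduct.comm k FB K).toRingEquiv
  exact isRegularRing_of_integral_reduced K _

/-- The residue fields of a finite product of separable extensions: separable, and localizations. -/
theorem residueField_of_pi (e : FB ≃ₐ[k] Π i, Ki i) (Q : Ideal FB) [Q.IsPrime] :
    Algebra.IsSeparable k Q.ResidueField ∧ IsLocalization.AtPrime Q.ResidueField Q := by
  classical
  obtain ⟨i, hi⟩ : ∃ i, e.symm (Pi.single i 1) ∉ Q := by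
    by_contra hall
    push Not at hall
    have h1 : ∑ i, e.symm (Pi.single i 1) ∈ Q := Q.sum_mem fun i _ => hall i
    rw [← map_sum, Finset.univ_sum_single (fun i => (1 : Ki i))] at h1
    exact Ideal.IsPrime.ne_top ‹_› (Q.eq_top_iff_one.2 (by simpa [← Pi.one_def] using h1))
  let L := Q.ResidueField
  let φ : FB →ₐ[k] L := IsScalarTower.toAlgHom k FB L
  let ε := e.symm (Pi.single i 1)
  have hε : φ ε = 1 := by
    have h0 : φ ε ≠ 0 := fun h0 => hi (Ideal.algebraMap_residueField_eq_zero.1 h0)
    have hid : φ ε * φ ε = φ ε := by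
      rw [← map_mul, ← map_mul]
      congr 2
      rw [← Pi.single_mul, one_mul]
    exact mul_left_cancel₀ h0 (hid.trans (mul_one _).symm)
  have hmul : ∀ y : FB, y * ε = e.symm (Pi.single i (e y i)) := fun y => by
    apply e.injective
    rw [map_mul, e.apply_symm_apply, e.apply_symm_apply]
    funext j
    by_cases hj : j = i
    · subst hj; simp
    · simp [hj]
  let ψ : Ki i →ₐ[k] L :=
    { toFun := fun x => φ (e.symm (Pi.single i x))
      map_one' := hε
      map_mul' := fun x y => by rw [← map_mul, ← map_mul, ← Pi.single_mul]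
      map_zero' := by rw [Pi.single_zero, map_zero, map_zero]
      map_add' := fun x y => by rw [← map_add, ← map_add, ← Pi.single_add]
      commutes' := fun r => by
        have hr : algebraMap k (Ki i) r = e (algebraMap k FB r) i := by rw [e.commutes]; rfl
        rw [hr, ← hmul, map_mul, hε, mul_one, φ.commutes] }
  have hψ : ∀ y : FB, φ y = ψ (e y i) := fun y => by
    show _ = φ (e.symm (Pi.single i (e y i)))
    rw [← hmul, map_mul, hε, mul_one]
  have hψsurj : Function.Surjective ψ := fun z => by
    obtain ⟨a, c, hc, rfl⟩ := IsFractionRing.div_surjective (A := FB ⧸ Q) z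
    obtain ⟨a, rfl⟩ := Ideal.Quotient.mk_surjective a
    obtain ⟨c, rfl⟩ := Ideal.Quotient.mk_surjective c
    refine ⟨e a i / e c i, ?_⟩
    rw [map_div₀, ← hψ, ← hψ]
    rfl
  let eψ : Ki i ≃ₐ[k] L := AlgEquiv.ofBijective ψ ⟨ψ.toRingHom.injective, hψsurj⟩
  refine ⟨AlgEquiv.Algebra.isSeparable eψ, ⟨fun y => ?_, fun z => ?_, fun {x y} hxy => ?_⟩⟩
  · exact isUnit_iff_ne_zero.2 fun h => y.2 (Ideal.algebraMap_residueField_eq_zero.1 h)
  · obtain ⟨x, rfl⟩ := hψsurj z
    exact ⟨⟨e.symm (Pi.single i x), 1⟩, by
      rw [OneMemClass.coe_one, map_one, mul_one]; rfl⟩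
  · refine ⟨⟨ε, hi⟩, ?_⟩
    have hxy' : e x i = e y i := ψ.toRingHom.injective ((hψ x).symm.trans (hxy.trans (hψ y)))
    show ε * x = ε * y
    rw [mul_comm ε, mul_comm ε, hmul, hmul, hxy']

end Pi

/-- Fibres of the structure map are products of separable field extensions. -/
def HasPiFibres (R S : Type u) [CommRing R] [CommRing S] [Algebra R S] : Prop :=
  ∀ (p : Ideal R) [p.IsPrime],
    ∃ (n : ℕ) (K : Fin n → Type u) (_ : ∀ i, Field (K i)) (_ : ∀ i, Algebra p.ResidueField (K i)),
      (∀ i, Algebra.IsSeparable p.ResidueField (K i)) ∧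
      Nonempty ((p.ResidueField ⊗[R] S) ≃ₐ[p.ResidueField] (Π i, K i))

theorem isRegularHom_of_piFibres (R S : Type u) [CommRing R] [CommRing S] [Algebra R S] [IsNoetherianRing S]
    [Module.Flat R S] (hpi : HasPiFibres R S) : CAlg.IsRegularHom R S := by
  refine ⟨inferInstance, fun p _ => ⟨FlatDepth.isNoetherianRing_fiber p, ?_⟩⟩
  obtain ⟨n, K, _, _, _, ⟨e⟩⟩ := hpi p
  haveI := FlatDepth.isNoetherianRing_fiber (B := S) p
  exact geomRegular_of_pi e

/-- Geometric regularity of the fibre over a residue field which is separable and a localization. -/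
theorem geomRegular_localized_tensor {k FB FC : Type u} [Field k] [CommRing FB] [CommRing FC] [Algebra k FB]
    [Algebra k FC] [Algebra FB FC] [IsScalarTower k FB FC] (L : Type u) [Field L] [Algebra k L] [Algebra FB L]
    [IsScalarTower k FB L] (M : Submonoid FB) [IsLocalization M L] [Algebra.IsSeparable k L]
    [IsNoetherianRing (L ⊗[FB] FC)] (h : CAlg.IsGeometricallyRegular k FC) :
    CAlg.IsGeometricallyRegular L (L ⊗[FB] FC) := by
  let T' := FC ⊗[FB] L
  haveI : IsLocalization (Algebra.algebraMapSubmonoid FC M) T' := by infer_instance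
  have h' : CAlg.IsGeometricallyRegular k T' := by
    intro k'' _ _ hk''
    haveI : IsRegularRing (FC ⊗[k] k'') :=
      haveI := h k'' hk''
      IsRegularRing.of_ringEquiv (R := k'' ⊗[k] FC) (Algebra.TensorProduct.comm k k'' FC).toRingEquiv
    haveI : IsRegularRing ((FC ⊗[k] k'') ⊗[FC] T') :=
      FlatDepth.isRegularRing_of_isLocalization
        (Algebra.algebraMapSubmonoid (FC ⊗[k] k'') (Algebra.algebraMapSubmonoid FC M))
    exact IsRegularRing.of_ringEquiv
      (((Algebra.TensorProduct.comm FC (FC ⊗[k] k'') T').toRingEquiv.trans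
        (Algebra.TensorProduct.cancelBaseChange k FC FC T' k'').toRingEquiv).trans
        (Algebra.TensorProduct.comm k T' k'').toRingEquiv)
  exact geomRegular_up_separable (L ⊗[FB] FC)
    (FlatDepth.geomRegular_of_algEquiv ((Algebra.TensorProduct.comm FB FC L).restrictScalars k) h')

theorem geomRegular_residueField_tensor {k FB FC : Type u} [Field k] [CommRing FB] [CommRing FC] [Algebra k FB]
    [Algebra k FC] [Algebra FB FC] [IsScalarTower k FB FC] {n : ℕ} {Ki : Fin n → Type u}
    [∀ i, Field (Ki i)] [∀ i, Algebra k (Ki i)] [∀ i, Algebra.IsSeparable k (Ki i)] (e : FB ≃ₐ[k] Π i, Ki i)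
    (Q : Ideal FB) [Q.IsPrime] [IsNoetherianRing (Q.Fiber FC)] (h : CAlg.IsGeometricallyRegular k FC) :
    CAlg.IsGeometricallyRegular Q.ResidueField (Q.Fiber FC) := by
  obtain ⟨hsep, hloc⟩ := residueField_of_pi e Q
  exact geomRegular_localized_tensor (k := k) (FB := FB) Q.ResidueField Q.primeCompl h

attribute [local instance] Algebra.TensorProduct.rightAlgebra

set_option maxHeartbeats 1000000 in
/-- Regularity passes from the base to an algebra with fibres products of separable extensions. -/
theorem isRegularHom_up_piFibres (R S C : Type u) [CommRing R] [CommRing S] [CommRing C] [Algebra R S] [Algebra S C]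
    [Algebra R C] [IsScalarTower R S C] [IsNoetherianRing S] [IsNoetherianRing C] [Module.Flat S C]
    (hpi : HasPiFibres R S) (h : CAlg.IsRegularHom R C) : CAlg.IsRegularHom S C := by
  refine ⟨inferInstance, fun P _ => ⟨FlatDepth.isNoetherianRing_fiber P, ?_⟩⟩
  let p := P.comap (algebraMap R S)
  obtain ⟨n, K, _, _, _, ⟨e⟩⟩ := hpi p
  obtain ⟨_, _, ⟨eC⟩⟩ := FlatDepth.exists_fibre_tower R S C p
  haveI := FlatDepth.isNoetherianRing_fiber (B := C) p
  haveI := FlatDepth.isNoetherianRing_fiber (B := S) p
  let FC := p.Fiber C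
  let x := PrimeSpectrum.preimageEquivFiber R S ⟨p, inferInstance⟩ ⟨⟨P, ‹_›⟩, rfl⟩
  have hxP : x.asIdeal.comap (algebraMap S (p.Fiber S)) = P :=
    congrArg (fun y => y.1.asIdeal) ((PrimeSpectrum.preimageEquivFiber R S ⟨p, inferInstance⟩).symm_apply_apply ⟨⟨P, ‹_›⟩, rfl⟩)
  let Q := x.asIdeal
  have hQ : CAlg.IsGeometricallyRegular Q.ResidueField (Q.Fiber FC) := by
    haveI := FlatDepth.isNoetherianRing_fiber (B := FC) Q
    exact geomRegular_residueField_tensor e Q (h.2 p).2
  have key : ∀ (P' : Ideal S) [P'.IsPrime], P' = P →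
      CAlg.IsGeometricallyRegular P'.ResidueField (P'.Fiber C) → CAlg.IsGeometricallyRegular P.ResidueField (P.Fiber C) := by
    intro P' _ hPP h'; subst hPP; exact h'
  exact key _ hxP (isGeomRegular_fibre_of_comap (FlatDepth.surjectiveOnStalks_fibre R S p) eC Q hQ)

end Groth.Agent.GRing6
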