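import Groth.Agent.Lib.GRing6.Permanence
import Groth.Agent.Lib.UCat.Universal
import Mathlib

/-! # Permanence of excellence -/

set_option autoImplicit false
universe u

namespace Groth.Agent.GRing6

/-- The regular locus of a localization. -/
theorem regLocus_isLocalization (A B : Type u) [CommRing A] [CommRing B] [Algebra A B] (M : Submonoid A)
    [IsLocalization M B] : EGA4.regLocus B = PrimeSpectrum.comap (algebraMap A B) ⁻¹' EGA4.regLocus A := by
  ext q
  haveI : IsLocalization.AtPrime (Localization.AtPrime q.asIdeal) (q.asIdeal.comap (algebraMap A B)) :=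
    IsLocalization.isLocalization_isLocalization_atPrime_isLocalization M (Localization.AtPrime q.asIdeal) q.asIdeal
  let e : Localization.AtPrime (q.asIdeal.comap (algebraMap A B)) ≃+* Localization.AtPrime q.asIdeal :=
    (IsLocalization.algEquiv (q.asIdeal.comap (algebraMap A B)).primeCompl _ _).toRingEquiv
  show IsRegularLocalRing _ ↔ IsRegularLocalRing _
  exact ⟨fun h => @IsRegularLocalRing.of_ringEquiv _ _ h _ _ e.symm, fun h => @IsRegularLocalRing.of_ringEquiv _ _ h _ _ e⟩

/-- The J-2 property passes to algebras essentially of finite type. -/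
theorem isJ2_of_essFiniteType (A B : Type u) [CommRing A] [CommRing B] [Algebra A B] [Algebra.EssFiniteType A B]
    (hA : EGA4.IsJ2 A) : EGA4.IsJ2 B := by
  intro S _ _ _
  letI : Algebra A S := ((algebraMap B S).comp (algebraMap A B)).toAlgebra
  haveI : IsScalarTower A B S := IsScalarTower.of_algebraMap_eq fun _ => rfl
  haveI : Algebra.EssFiniteType A S := Algebra.EssFiniteType.comp A B S
  rw [regLocus_isLocalization (Algebra.EssFiniteType.subalgebra A S) S (Algebra.EssFiniteType.submonoid A S)]
  exact (hA _ inferInstance).preimage (PrimeSpectrum.continuous_comap _)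

theorem isExcellent_of_finiteType (A B : Type u) [CommRing A] [CommRing B] [Algebra A B] [Algebra.FiniteType A B]
    (hA : EGA4.IsExcellent A) : EGA4.IsExcellent B := by
  haveI := hA.1
  exact ⟨Algebra.FiniteType.isNoetherianRing A B, UCat.isUniversallyCatenary_of_essFiniteType A B hA.2.1,
    isGRing_of_finiteType A B hA.2.2.1, isJ2_of_essFiniteType A B hA.2.2.2⟩

theorem isExcellent_of_isLocalization (A B : Type u) [CommRing A] [CommRing B] [Algebra A B] (M : Submonoid A)
    [IsLocalization M B] (hA : EGA4.IsExcellent A) : EGA4.IsExcellent B := by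
  haveI := hA.1
  haveI : Algebra.EssFiniteType A B := Algebra.EssFiniteType.of_isLocalization B M
  exact ⟨IsLocalization.isNoetherianRing M B inferInstance, UCat.isUniversallyCatenary_of_essFiniteType A B hA.2.1,
    isGRing_of_isLocalization A B M hA.2.2.1, isJ2_of_essFiniteType A B hA.2.2.2⟩

end Groth.Agent.GRing6
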