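import Groth.Agent.Lib.GRing6.FiniteDomains
import Mathlib

/-! # Formal fibres tested on finite domains -/

set_option autoImplicit false
set_option linter.style.haveILetI false
universe u

open IsLocalRing TensorProduct

namespace Groth.Agent.GRing6

noncomputable local instance (priority := high) cplAlgebra5 (A : Type u) [CommRing A] [IsLocalRing A] :
    Algebra A (EGA4.Cpl A) :=
  AdicCompletion.instAlgebra _

theorem geomReduced_iff_finite (k S : Type u) [Field k] [CommRing S] [Algebra k S] :
    Algebra.IsGeometricallyReduced k S ↔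
      ∀ (K : Type u) [Field K] [Algebra k K], Module.Finite k K → IsReduced (K ⊗[k] S) := by
  refine ⟨fun h K _ _ hK => inferInstance, fun h => ?_⟩
  rw [Algebra.isGeometricallyReduced_field_iff]
  haveI : IsReduced (S ⊗[k] AlgebraicClosure k) := by
    refine IsReduced.tensorProduct_of_flat_of_forall_fg fun L hL => ?_
    haveI : Algebra.FiniteType k L := L.fg_iff_finiteType.1 hL
    haveI : Algebra.IsIntegral k L := ⟨fun x => (isIntegral_algHom_iff L.val Subtype.val_injective).1
      (Algebra.IsIntegral.isIntegral _)⟩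
    haveI : Module.Finite k L := Algebra.IsIntegral.finite
    letI : Field L := (L.isField_of_algebraic).toField
    haveI := h L inferInstance
    exact isReduced_of_injective (Algebra.TensorProduct.comm k S L) (AlgEquiv.injective _)
  exact isReduced_of_injective (Algebra.TensorProduct.comm k (AlgebraicClosure k) S) (AlgEquiv.injective _)

theorem regularHom_cpl_iff_finite_domains (A : Type u) [CommRing A] [IsNoetherianRing A] [IsLocalRing A] :
    CAlg.IsRegularHom A (EGA4.Cpl A) ↔
      ∀ (B : Type u) [CommRing B] [IsDomain B] [Algebra A B] [Module.Finite A B]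
        (q : Ideal (B ⊗[A] EGA4.Cpl A)) [q.IsPrime],
        q.comap (algebraMap B (B ⊗[A] EGA4.Cpl A)) = ⊥ → IsRegularLocalRing (Localization.AtPrime q) := by
  haveI : IsNoetherianRing (EGA4.Cpl A) := CplLocH7.isNoetherianRing_cpl A
  refine Iff.trans ?_ (geometric_fibre_iff_finite_domains A (EGA4.Cpl A) (fun R _ => IsRegularLocalRing R)
    fun R R' _ _ e h => @IsRegularLocalRing.of_ringEquiv _ _ h _ _ e)
  constructor
  · intro h p _ K _ _ hK P _
    haveI := (h.2 p).2 K hK
    exact isRegularRing_iff.1 inferInstance P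
  · intro h
    refine ⟨(CplLocH7.faithfullyFlat_cpl A).toFlat, fun p _ => ⟨FlatDepth.isNoetherianRing_fiber p, fun K _ _ hK => ?_⟩⟩
    haveI := hK
    haveI := FlatDepth.isNoetherianRing_fiber (B := EGA4.Cpl A) p
    haveI : IsNoetherianRing (K ⊗[p.ResidueField] p.Fiber (EGA4.Cpl A)) :=
      haveI : IsNoetherianRing (p.Fiber (EGA4.Cpl A) ⊗[p.ResidueField] K) :=
        Algebra.FiniteType.isNoetherianRing (p.Fiber (EGA4.Cpl A)) (p.Fiber (EGA4.Cpl A) ⊗[p.ResidueField] K)
      isNoetherianRing_of_ringEquiv _ (Algebra.TensorProduct.comm p.ResidueField (p.Fiber (EGA4.Cpl A)) K).toRingEquiv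
    exact isRegularRing_iff.2 fun P _ => h p K hK P

theorem geomReducedFormalFibres_iff_finite_domains (A : Type u) [CommRing A] [IsNoetherianRing A] [IsLocalRing A] :
    EGA4.HasGeomReducedFormalFibres A ↔
      ∀ (B : Type u) [CommRing B] [IsDomain B] [Algebra A B] [Module.Finite A B]
        (q : Ideal (B ⊗[A] EGA4.Cpl A)) [q.IsPrime],
        q.comap (algebraMap B (B ⊗[A] EGA4.Cpl A)) = ⊥ → IsReduced (Localization.AtPrime q) := by
  refine Iff.trans ?_ (geometric_fibre_iff_finite_domains A (EGA4.Cpl A) (fun R _ => IsReduced R)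
    fun R R' _ _ e h => @isReduced_of_injective _ _ _ _ _ _ _ e.symm e.symm.injective h)
  constructor
  · intro h p _ K _ _ hK P _
    haveI := (geomReduced_iff_finite _ _).1 (h p) K hK
    exact isReduced_localizationPreserves P.primeCompl (Localization.AtPrime P) ‹_›
  · intro h p _
    exact (geomReduced_iff_finite _ _).2 fun K _ _ hK => isReduced_ofLocalizationMaximal _ fun P _ => h p K hK P

end Groth.Agent.GRing6
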