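import Groth.Agent.Lib.GRing6.Permanence
import Groth.Agent.Lib.GRing6.FProp
import Groth.Agent.Lib.UCat.Universal
import Groth.Agent.Lib.CAlgLow.GeomReg
import Groth.Agent.Lib.Compl.Dim
import Groth.Agent.S2619
import Mathlib

/-! # Dedekind domains of characteristic zero are excellent -/

set_option autoImplicit false
set_option linter.style.haveILetI false
universe u

open IsLocalRing TensorProduct

namespace Groth.Agent.GRing6

noncomputable local instance (priority := high) cplAlgebra6 (A : Type u) [CommRing A] [IsLocalRing A] :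
    Algebra A (EGA4.Cpl A) :=
  AdicCompletion.instAlgebra _

/-- In characteristic zero regular means geometrically regular. -/
theorem geomRegular_of_charZero (k S : Type u) [Field k] [CharZero k] [CommRing S] [Algebra k S] [IsRegularRing S] :
    CAlg.IsGeometricallyRegular k S := by
  intro K _ _ hK
  haveI := hK
  haveI : IsNoetherianRing (S ⊗[k] K) := Algebra.FiniteType.isNoetherianRing S (S ⊗[k] K)
  have hgeom : CAlg.IsGeometricallyRegular k K := CAlgLow.geomRegular_of_isSeparable K
  haveI : IsRegularRing (S ⊗[k] K) := FlatDepth.regular_tensor fun p _ => by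
    haveI : IsNoetherianRing (p.ResidueField ⊗[k] K) :=
      Algebra.FiniteType.isNoetherianRing p.ResidueField (p.ResidueField ⊗[k] K)
    exact FlatDepth.regular_baseChange K p.ResidueField hgeom
  exact IsRegularRing.of_ringEquiv (Algebra.TensorProduct.comm k S K).toRingEquiv

/-- The closed formal fibre is the residue field. -/
theorem geomRegular_closed_formalFibre (R : Type u) [CommRing R] [IsLocalRing R] [IsNoetherianRing R]
    (m : Ideal R) [hm : m.IsPrime] (hmax : m = maximalIdeal R) :
    CAlg.IsGeometricallyRegular m.ResidueField (m.Fiber (EGA4.Cpl R)) := by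
  subst hmax
  let κ := (maximalIdeal R).ResidueField
  haveI := CplLocH7.faithfullyFlat_cpl R
  have hsurj : Function.Surjective (algebraMap κ (κ ⊗[R] EGA4.Cpl R)) := fun x => by
    induction x using TensorProduct.induction_on with
    | zero => exact ⟨0, map_zero _⟩
    | add a b ha hb =>
      obtain ⟨a, rfl⟩ := ha; obtain ⟨b, rfl⟩ := hb
      exact ⟨a + b, map_add _ _ _⟩
    | tmul k c =>
      obtain ⟨a, ha⟩ := CplLocH7.exists_sub_mem_pow (A := R) 1 c
      refine ⟨k * algebraMap R κ a, ?_⟩
      rw [pow_one, CplLocH7.maximalIdeal_cpl] at ha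
      have hz : ∀ d ∈ (maximalIdeal R).map (algebraMap R (EGA4.Cpl R)), k ⊗ₜ[R] d = 0 := fun d hd => by
        rw [← Submodule.restrictScalars_mem R, ← Ideal.smul_top_eq_map] at hd
        induction hd using Submodule.smul_induction_on' with
        | smul r hr y _ =>
          rw [← TensorProduct.smul_tmul, Algebra.smul_def, Ideal.algebraMap_residueField_eq_zero.2 hr, zero_mul, zero_tmul]
        | add x _ y _ hx hy => rw [tmul_add, hx, hy, add_zero]
      have h2 : k ⊗ₜ[R] c = k ⊗ₜ[R] (algebraMap R (EGA4.Cpl R) a) := by
        rw [← sub_eq_zero, ← tmul_sub, hz _ ha]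
      rw [h2, Algebra.TensorProduct.algebraMap_apply, Algebra.algebraMap_self, RingHom.id_apply,
        Algebra.algebraMap_eq_smul_one (A := EGA4.Cpl R) a, ← smul_tmul, Algebra.smul_def, mul_comm]
  haveI : Nontrivial (κ ⊗[R] EGA4.Cpl R) := Module.FaithfullyFlat.rTensor_nontrivial R _ κ
  exact FlatDepth.geomRegular_of_algEquiv (AlgEquiv.ofBijective (Algebra.ofId κ _) ⟨(algebraMap κ _).injective, hsurj⟩)
    (CAlgLow.geomRegular_of_isSeparable κ)

/-- Fibres of a regular ring at the zero ideal are regular. -/
theorem regular_generic_fibre (R C : Type u) [CommRing R] [IsDomain R] [CommRing C] [Algebra R C] [IsRegularRing C] :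
    IsRegularRing ((⊥ : Ideal R).Fiber C) := by
  haveI : IsLocalization (Algebra.algebraMapSubmonoid C (nonZeroDivisors R)) (C ⊗[R] (⊥ : Ideal R).ResidueField) := by
    infer_instance
  haveI : IsRegularRing (C ⊗[R] (⊥ : Ideal R).ResidueField) :=
    FlatDepth.isRegularRing_of_isLocalization (Algebra.algebraMapSubmonoid C (nonZeroDivisors R))
  exact IsRegularRing.of_ringEquiv (Algebra.TensorProduct.comm R C (⊥ : Ideal R).ResidueField).toRingEquiv

theorem regularHom_cpl_of_dedekind_atPrime (R : Type u) [CommRing R] [IsDomain R] [IsLocalRing R] [IsNoetherianRing R]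
    [CharZero R] [IsRegularLocalRing R] (hdim : ∀ p : Ideal R, p.IsPrime → p = ⊥ ∨ p = maximalIdeal R) :
    CAlg.IsRegularHom R (EGA4.Cpl R) := by
  haveI := CplLocH7.faithfullyFlat_cpl R
  haveI : IsRegularLocalRing (EGA4.Cpl R) := (Compl.isRegularLocalRing_adicCompletion_iff R).1 inferInstance
  haveI : IsRegularRing (EGA4.Cpl R) := isRegularRing_iff.mpr fun p _ => RegLoc.isRegularLocalRing_localization (EGA4.Cpl R) p
  refine ⟨inferInstance, fun p _ => ⟨FlatDepth.isNoetherianRing_fiber p, ?_⟩⟩
  rcases hdim p ‹_› with rfl | h
  · haveI : CharZero (⊥ : Ideal R).ResidueField := by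
      refine charZero_of_injective_algebraMap (R := R) ?_
      exact IsFractionRing.injective R (⊥ : Ideal R).ResidueField
    haveI := regular_generic_fibre R (EGA4.Cpl R)
    exact geomRegular_of_charZero _ _
  · exact geomRegular_closed_formalFibre R p h

theorem isExcellent_of_dedekind_charZero (A : Type u) [CommRing A] [IsDedekindDomain A] [CharZero A] :
    EGA4.IsExcellent A := by
  haveI : IsRegularRing A := inferInstance
  refine ⟨inferInstance, ?_, ?_, Groth.Agent.S2619.result A⟩
  · haveI := UCat.isCM_of_regular A
    exact UCat.isUniversallyCatenary_of_cm A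
  · refine isGRing_of_maximal A fun m _ => ?_
    haveI : IsDomain (Localization.AtPrime m) := IsLocalization.isDomain_localization m.primeCompl_le_nonZeroDivisors
    haveI : CharZero (Localization.AtPrime m) :=
      charZero_of_injective_algebraMap (IsLocalization.injective (Localization.AtPrime m) m.primeCompl_le_nonZeroDivisors)
    haveI : IsRegularLocalRing (Localization.AtPrime m) := isRegularRing_iff.1 inferInstance m
    haveI : Ring.DimensionLEOne (Localization.AtPrime m) :=
      Ring.DimensionLEOne.localization _ m.primeCompl_le_nonZeroDivisors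
    refine regularHom_cpl_of_dedekind_atPrime _ fun p hp => ?_
    by_cases h : p = ⊥
    · exact Or.inl h
    · exact Or.inr (IsLocalRing.eq_maximalIdeal (hp.isMaximal h))

end Groth.Agent.GRing6
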