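import Groth.Agent.Lib.GRing6.Nagata
import Groth.Agent.Lib.GRing6.FormalFibreDomains
import Groth.Agent.Lib.GRing6.Dedekind
import Groth.Agent.Lib.Compl.Algebraize
import Groth.Agent.Lib.CAlgLow.AnUnramNagata
import Mathlib

/-! # Reduced completions of finite algebras -/

set_option autoImplicit false
set_option linter.style.haveILetI false
universe u

open IsLocalRing TensorProduct

namespace Groth.Agent.GRing6

noncomputable local instance (priority := high) cplAlgebra7 (A : Type u) [CommRing A] [IsLocalRing A] :
    Algebra A (EGA4.Cpl A) :=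
  AdicCompletion.instAlgebra _

/-- The completion of a finite algebra along its Jacobson radical is its base change to the completion. -/
theorem nonempty_cplFiniteEquiv (A : Type u) [CommRing A] [IsLocalRing A] [IsNoetherianRing A]
    (C : Type u) [CommRing C] [Algebra A C] [Module.Finite A C] :
    Nonempty (AdicCompletion ((⊥ : Ideal C).jacobson) C ≃+* C ⊗[A] EGA4.Cpl A) := by
  let Ah := EGA4.Cpl A
  let T := C ⊗[A] Ah
  haveI := CplLocH7.faithfullyFlat_cpl A
  haveI : IsNoetherianRing Ah := CplLocH7.isNoetherianRing_cpl A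
  haveI : IsNoetherianRing C := IsNoetherianRing.of_finite A C
  let mC := (maximalIdeal A).map (algebraMap A C)
  let J := (⊥ : Ideal C).jacobson
  have hle : mC ≤ J := Ideal.map_le_iff_le_comap.2 fun a ha => by
    show algebraMap A C a ∈ (⊥ : Ideal C).jacobson
    rw [Ideal.jacobson, Ideal.mem_sInf]
    rintro n ⟨-, hn⟩
    haveI := hn
    haveI := Ideal.isMaximal_comap_of_isIntegral_of_isMaximal (R := A) n
    have := IsLocalRing.eq_maximalIdeal (I := n.comap (algebraMap A C)) inferInstance
    exact (this.symm ▸ ha : a ∈ n.comap (algebraMap A C))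
  obtain ⟨k, hk⟩ : ∃ k, J ^ k ≤ mC := by
    refine Ideal.exists_pow_le_of_le_radical_of_fg (fun x hx => ?_) (IsNoetherian.noetherian J)
    rw [← Ideal.sInf_minimalPrimes, Ideal.mem_sInf]
    intro n hn
    haveI : n.IsPrime := hn.1.1
    haveI : (n.comap (algebraMap A C)).IsMaximal := by
      have h1 : maximalIdeal A ≤ n.comap (algebraMap A C) := Ideal.map_le_iff_le_comap.1 hn.1.2
      rw [← (IsLocalRing.maximalIdeal.isMaximal A).eq_of_le Ideal.IsPrime.ne_top' h1]
      infer_instance
    haveI : n.IsMaximal := Ideal.isMaximal_of_isIntegral_of_isMaximal_comap (R := A) n inferInstance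
    exact (sInf_le (⟨bot_le, inferInstance⟩ : n ∈ {P : Ideal C | ⊥ ≤ P ∧ P.IsMaximal}) : (⊥ : Ideal C).jacobson ≤ n) hx
  letI : Algebra Ah T := Algebra.TensorProduct.rightAlgebra
  haveI : IsScalarTower A Ah T := Algebra.TensorProduct.right_isScalarTower
  haveI : Module.Finite Ah T :=
    Module.Finite.equiv (Algebra.TensorProduct.commRight A Ah C).toLinearEquiv
  haveI : IsAdicComplete (maximalIdeal A |>.map (algebraMap A Ah)) Ah :=
    (IsAdicComplete.map_algebraMap_iff _ _).2 (AdicCompletion.isAdicComplete (IsNoetherian.noetherian _))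
  haveI : IsAdicComplete (((maximalIdeal A).map (algebraMap A Ah)).map (algebraMap Ah T)) T :=
    (IsAdicComplete.map_algebraMap_iff _ _).2 (Compl.isAdicComplete_of_finite _ T)
  let ψ : C →+* T := algebraMap C T
  have hmT : mC.map ψ = ((maximalIdeal A).map (algebraMap A Ah)).map (algebraMap Ah T) := by
    show ((maximalIdeal A).map (algebraMap A C)).map ψ = _
    rw [Ideal.map_map, Ideal.map_map, ← IsScalarTower.algebraMap_eq, ← IsScalarTower.algebraMap_eq]
  haveI : IsAdicComplete (J.map ψ) T := by
    haveI : IsAdicComplete (mC.map ψ) T := hmT ▸ inferInstance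
    refine Compl.isAdicComplete_of_le_of_pow_le T (I := mC.map ψ) (Ideal.map_mono hle) (k := k) ?_
    rw [← Ideal.map_pow]
    exact Ideal.map_mono hk
  haveI : Module.FaithfullyFlat C T := inferInstance
  refine (Compl.exists_ringEquiv_adicCompletion J ψ (fun n c => ?_) (fun n g hg => ?_)).elim fun e _ => ⟨e.symm⟩
  · induction c using TensorProduct.induction_on with
    | zero => exact ⟨0, by simp⟩
    | add a b ha hb =>
      obtain ⟨g, hg⟩ := ha; obtain ⟨g', hg'⟩ := hb
      exact ⟨g + g', by rw [map_add, add_sub_add_comm]; exact add_mem hg hg'⟩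
    | tmul x y =>
      obtain ⟨a, ha⟩ := CplLocH7.exists_sub_mem_pow (A := A) n y
      rw [CplLocH7.maximalIdeal_cpl, ← Ideal.map_pow] at ha
      refine ⟨x * algebraMap A C a, ?_⟩
      have h1 : x ⊗ₜ[A] y - ψ (x * algebraMap A C a) = algebraMap C T x * algebraMap Ah T (y - algebraMap A Ah a) := by
        rw [map_sub, mul_sub, ← IsScalarTower.algebraMap_apply, map_mul, ← IsScalarTower.algebraMap_apply]
        congr 1
        show x ⊗ₜ[A] y = (x ⊗ₜ[A] (1 : Ah)) * ((1 : C) ⊗ₜ[A] y)
        rw [Algebra.TensorProduct.tmul_mul_tmul, mul_one, one_mul]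
      rw [h1]
      refine Ideal.mul_mem_left _ _ ?_
      have h2 := Ideal.mem_map_of_mem (algebraMap Ah T) ha
      rw [Ideal.map_map, ← IsScalarTower.algebraMap_eq, Ideal.map_pow] at h2
      refine Ideal.pow_right_mono ?_ n h2
      rw [IsScalarTower.algebraMap_eq A C T, ← Ideal.map_map]
      exact Ideal.map_mono hle
  · rw [← Ideal.map_pow, ← Ideal.mem_comap, Ideal.comap_map_eq_self_of_faithfullyFlat] at hg
    exact hg

/-- A reduced finite algebra has reduced completion when the formal fibres are geometrically reduced. -/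
theorem isReduced_tensor_cpl (A : Type u) [CommRing A] [IsLocalRing A] [IsNoetherianRing A]
    (h : EGA4.HasGeomReducedFormalFibres A) (C : Type u) [CommRing C] [Algebra A C] [Module.Finite A C] [IsReduced C] :
    IsReduced (C ⊗[A] EGA4.Cpl A) := by
  haveI : IsNoetherianRing (EGA4.Cpl A) := CplLocH7.isNoetherianRing_cpl A
  haveI : IsNoetherianRing C := IsNoetherianRing.of_finite A C
  haveI : IsNoetherianRing (C ⊗[A] EGA4.Cpl A) :=
    FlatDepth.isNoetherianRing_baseChange A (EGA4.Cpl A) C (Or.inr inferInstance)
  have h1 : reducedProp.P C (C ⊗[A] EGA4.Cpl A) :=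
    reducedProp.baseChange A (EGA4.Cpl A) C ((reducedProp_cpl_iff A).2 h)
  haveI := h1.1
  exact FlatDepth.reduced_of_flat_fibres (A := C) fun p _ =>
    haveI := h1.2 p
    Algebra.isReduced_of_isGeometricallyReduced (A := p.Fiber (C ⊗[A] EGA4.Cpl A)) p.ResidueField

theorem finite_reduced_cpl_iff (A : Type u) [CommRing A] [IsLocalRing A] [IsNoetherianRing A] :
    (∀ (C : Type u) [CommRing C] [Algebra A C], Module.Finite A C → IsReduced C →
        IsReduced (AdicCompletion ((⊥ : Ideal C).jacobson) C)) ↔
      EGA4.HasGeomReducedFormalFibres A := by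
  constructor
  · intro h
    rw [geomReducedFormalFibres_iff_finite_domains]
    intro B _ _ _ _ q _ _
    obtain ⟨e⟩ := nonempty_cplFiniteEquiv A B
    haveI := h B inferInstance inferInstance
    haveI : IsReduced (B ⊗[A] EGA4.Cpl A) := isReduced_of_injective e.symm e.symm.injective
    exact isReduced_localizationPreserves q.primeCompl (Localization.AtPrime q) inferInstance
  · intro h C _ _ hC hr
    haveI := hC; haveI := hr
    obtain ⟨e⟩ := nonempty_cplFiniteEquiv A C
    haveI := isReduced_tensor_cpl A h C
    exact isReduced_of_injective e e.injective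

/-- Nagata local rings have geometrically reduced formal fibres. -/
theorem geomReducedFormalFibres_of_isN2 (A : Type u) [CommRing A] [IsLocalRing A] [IsNoetherianRing A]
    (hN : ∀ (p : Ideal A) [p.IsPrime], CAlg.IsN2 (A ⧸ p)) : EGA4.HasGeomReducedFormalFibres A := by
  rw [geomReducedFormalFibres_iff_finite_domains]
  intro B _ _ _ _ q _ _
  haveI := CplLocH7.faithfullyFlat_cpl A
  haveI : IsNoetherianRing (EGA4.Cpl A) := CplLocH7.isNoetherianRing_cpl A
  haveI : IsReduced (B ⊗[A] EGA4.Cpl A) :=
    AnUnram.isReduced_tensor_of_forall_isN2 hN (EGA4.Cpl A) (CplLocH7.maximalIdeal_cpl A) (fun x => by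
      obtain ⟨y, rfl⟩ := IsLocalRing.residue_surjective x
      obtain ⟨a, ha⟩ := CplLocH7.exists_sub_mem_pow (A := A) 1 y
      refine ⟨a, ?_⟩
      rw [pow_one, ← IsLocalRing.residue_eq_zero_iff, map_sub, sub_eq_zero] at ha
      exact ha.symm) _ B inferInstance rfl
  exact isReduced_localizationPreserves q.primeCompl (Localization.AtPrime q) inferInstance

/-- A reduced local ring with geometrically normal formal fibres is analytically unramified, with finite
normalisation. -/
theorem reduced_cpl_of_normal_formalFibres (A : Type u) [CommRing A] [IsLocalRing A] [IsNoetherianRing A] [IsReduced A]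
    (h : EGA4.HasGeomNormalFormalFibres A) :
    IsReduced (EGA4.Cpl A) ∧ Module.Finite A (integralClosure A (FractionRing A)) := by
  have h' : EGA4.HasGeomReducedFormalFibres A := fun p _ => FlatDepth.geomReduced_of_geomNormal (h p)
  haveI : IsReduced (FractionRing A) := isReduced_localizationPreserves (nonZeroDivisors A) (FractionRing A) inferInstance
  exact ⟨isReduced_cpl A ((reducedProp_cpl_iff A).2 h'),
    AnUnram.finite_integralClosure_of_localization_finite (isNagata_of_local A h') (nonZeroDivisors A) (FractionRing A) (FractionRing A)⟩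

end Groth.Agent.GRing6
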