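import Groth.Agent.Lib.GRing6.ClosedFibreLift
import Groth.Agent.Lib.GRing6.FormalFibreDomains
import Groth.Agent.Lib.CplLocH7.Basic
import Groth.Agent.Lib.FlatDepth.CplMap
import Mathlib

/-! # Flat local algebras with geometrically good closed fibre -/

set_option autoImplicit false
set_option linter.style.haveILetI false
universe u

open IsLocalRing TensorProduct

namespace Groth.Agent.GRing6

noncomputable local instance (priority := high) cplAlgebraCF (A : Type u) [CommRing A] [IsLocalRing A] :
    Algebra A (EGA4.Cpl A) :=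
  AdicCompletion.instAlgebra _

theorem isMaximal_ker_finite_field (A K : Type u) [CommRing A] [Field K] [Algebra A K] [Module.Finite A K] :
    (RingHom.ker (algebraMap A K)).IsMaximal := by
  haveI : Algebra.IsIntegral A K := Algebra.IsIntegral.of_finite A K
  rw [RingHom.ker_eq_comap_bot]
  exact Ideal.isMaximal_comap_of_isIntegral_of_isMaximal (⊥ : Ideal K)

/-- The closed fibre hypothesis, for finite field algebras over the base. -/
theorem hk_of_closed (Q : ∀ (R : Type u) [CommRing R], Prop)
    (hiso : ∀ (R R' : Type u) [CommRing R] [CommRing R'], (R ≃+* R') → Q R → Q R')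
    (A C : Type u) [CommRing A] [CommRing C] [IsLocalRing A] [Algebra A C]
    (h : ∀ (K : Type u) [Field K] [Algebra (maximalIdeal A).ResidueField K],
      Module.Finite (maximalIdeal A).ResidueField K →
        AllLocal Q (K ⊗[(maximalIdeal A).ResidueField] (maximalIdeal A).Fiber C))
    (K : Type u) [Field K] [Algebra A K] [Module.Finite A K] (P : Ideal (K ⊗[A] C)) [P.IsPrime] :
    Q (Localization.AtPrime P) := by
  let k := (maximalIdeal A).ResidueField
  have hker : RingHom.ker (algebraMap A K) = maximalIdeal A :=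
    IsLocalRing.eq_maximalIdeal (isMaximal_ker_finite_field A K)
  have hu : (maximalIdeal A).primeCompl ≤ (IsUnit.submonoid K).comap (algebraMap A K) := fun x hx =>
    isUnit_iff_ne_zero.2 fun h => hx (by rw [← hker]; exact h)
  letI : Algebra k K := (Ideal.ResidueField.lift (maximalIdeal A) (algebraMap A K) hker.ge hu).toAlgebra
  haveI : IsScalarTower A k K :=
    .of_algebraMap_eq fun x => (Ideal.ResidueField.lift_algebraMap _ (algebraMap A K) hker.ge hu x).symm
  haveI : Module.Finite k K := Module.Finite.of_restrictScalars_finite A k K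
  exact AllLocal.of_ringEquiv hiso
    (Algebra.TensorProduct.cancelBaseChange A k k K C).toRingEquiv (h K inferInstance) P

variable (Q : ∀ (R : Type u) [CommRing R], Prop)
  (hiso : ∀ (R R' : Type u) [CommRing R] [CommRing R'], (R ≃+* R') → Q R → Q R')
  (hgen : ∀ (R : Type u) [CommRing R] [IsNoetherianRing R] [IsLocalRing R] (P : Ideal R) [P.IsPrime],
    Q R → Q (Localization.AtPrime P))
  (hup : ∀ (B S : Type u) [CommRing B] [CommRing S] [Algebra B S] [IsNoetherianRing B] [IsNoetherianRing S]
    [Module.Flat B S] (q : Ideal S) [q.IsPrime],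
    IsRegularLocalRing (Localization.AtPrime (q.comap (algebraMap B S))) → Q (EGA4.FibLocRing B S q) →
      Q (Localization.AtPrime q))

include hiso hgen hup in
/-- Complete base: all fibres are geometrically `Q`. -/
theorem fibres_of_closed (A C : Type u) [CommRing A] [CommRing C] [IsLocalRing A] [IsNoetherianRing A]
    [IsAdicComplete (maximalIdeal A) A] [IsLocalRing C] [IsNoetherianRing C] [Algebra A C]
    [IsLocalHom (algebraMap A C)] [Module.Flat A C] [Module.Finite (ResidueField A) (ResidueField C)]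
    (h : ∀ (K : Type u) [Field K] [Algebra (maximalIdeal A).ResidueField K],
      Module.Finite (maximalIdeal A).ResidueField K →
        AllLocal Q (K ⊗[(maximalIdeal A).ResidueField] (maximalIdeal A).Fiber C))
    (p : Ideal A) [p.IsPrime] (K : Type u) [Field K] [Algebra p.ResidueField K] (hK : Module.Finite p.ResidueField K) :
    AllLocal Q (K ⊗[p.ResidueField] p.Fiber C) :=
  (geometric_fibre_iff_finite_domains A C Q hiso).2
    (fun B _ _ _ _ q _ hq => core_generic Q hiso hgen hup A C (fun K _ _ _ P _ => hk_of_closed Q hiso A C h K P) B q hq)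
    p K hK

include hiso hgen hup in
/-- The completion of a flat local algebra with good closed fibre has good fibres over the completed base. -/
theorem cpl_fibres_of_closed (A B : Type u) [CommRing A] [CommRing B] [IsNoetherianRing A] [IsNoetherianRing B]
    [IsLocalRing A] [IsLocalRing B] [Algebra A B] [IsLocalHom (algebraMap A B)] [Module.Flat A B]
    [Module.Finite (ResidueField A) (ResidueField B)]
    (h : ∀ (K : Type u) [Field K] [Algebra (maximalIdeal A).ResidueField K],
      Module.Finite (maximalIdeal A).ResidueField K →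
        AllLocal Q (K ⊗[(maximalIdeal A).ResidueField] (maximalIdeal A).Fiber (EGA4.Cpl B))) :
    ∃ (_ : Algebra (EGA4.Cpl A) (EGA4.Cpl B)), IsScalarTower A (EGA4.Cpl A) (EGA4.Cpl B) ∧
      Module.Flat (EGA4.Cpl A) (EGA4.Cpl B) ∧
      ∀ (p : Ideal (EGA4.Cpl A)) [p.IsPrime] (K : Type u) [Field K] [Algebra p.ResidueField K],
        Module.Finite p.ResidueField K → AllLocal Q (K ⊗[p.ResidueField] p.Fiber (EGA4.Cpl B)) := by
  haveI := CplLocH7.isNoetherianRing_cpl A
  haveI := CplLocH7.isNoetherianRing_cpl B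
  haveI : IsAdicComplete (maximalIdeal (EGA4.Cpl A)) (EGA4.Cpl A) := by
    rw [CplLocH7.maximalIdeal_cpl]
    exact (IsAdicComplete.map_algebraMap_iff _ _).2 (AdicCompletion.isAdicComplete (IsNoetherian.noetherian _))
  obtain ⟨inst, htow, hff⟩ := FlatDepth.exists_cpl_tower A B
  letI := inst
  haveI hT : IsScalarTower A (EGA4.Cpl A) (EGA4.Cpl B) := htow
  haveI : Module.FaithfullyFlat (EGA4.Cpl A) (EGA4.Cpl B) := hff inferInstance
  haveI : IsLocalHom (algebraMap (EGA4.Cpl A) (EGA4.Cpl B)) := ⟨fun a ha => by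
    by_contra hu
    obtain ⟨Q', hQ'⟩ := PrimeSpectrum.comap_surjective_of_faithfullyFlat (A := EGA4.Cpl A) (B := EGA4.Cpl B)
      ⟨maximalIdeal _, inferInstance⟩
    exact Q'.2.ne_top (Ideal.eq_top_of_isUnit_mem _
      (show algebraMap (EGA4.Cpl A) (EGA4.Cpl B) a ∈ Q'.asIdeal from
        (congrArg PrimeSpectrum.asIdeal hQ').ge hu) ha)⟩
  haveI : Module.Finite (ResidueField (EGA4.Cpl A)) (ResidueField (EGA4.Cpl B)) :=
    (CplLocH7.residue_finite_iff (A := A) (B := B)).2 ‹Module.Finite (ResidueField A) (ResidueField B)›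
  refine ⟨inst, htow, inferInstance, fun p _ K _ _ hK =>
    (geometric_fibre_iff_finite_domains (EGA4.Cpl A) (EGA4.Cpl B) Q hiso).2
      (fun D _ _ _ _ q _ hq => core_generic Q hiso hgen hup (EGA4.Cpl A) (EGA4.Cpl B) (fun L _ _ _ P _ => ?_) D q hq)
      p K hK⟩
  letI : Algebra A L := ((algebraMap (EGA4.Cpl A) L).comp (algebraMap A (EGA4.Cpl A))).toAlgebra
  haveI : IsScalarTower A (EGA4.Cpl A) L := .of_algebraMap_eq fun _ => rfl
  have hker : RingHom.ker (algebraMap (EGA4.Cpl A) L) = maximalIdeal (EGA4.Cpl A) :=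
    IsLocalRing.eq_maximalIdeal (isMaximal_ker_finite_field _ _)
  have happrox : ∀ r : EGA4.Cpl A, ∃ a : A, algebraMap A (EGA4.Cpl A) a - r ∈
      (maximalIdeal A).map (algebraMap A (EGA4.Cpl A)) := fun r => by
    obtain ⟨a, ha⟩ := CplLocH7.exists_sub_mem_pow (A := A) 1 r
    rw [pow_one, CplLocH7.maximalIdeal_cpl] at ha
    refine ⟨a, ?_⟩
    first
      | exact ha
      | exact (neg_sub r (algebraMap A (EGA4.Cpl A) a)) ▸ Ideal.neg_mem_iff _ |>.2 ha
  have hzero : ∀ s : EGA4.Cpl A, s ∈ (maximalIdeal A).map (algebraMap A (EGA4.Cpl A)) →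
      ∀ (x : L) (c : EGA4.Cpl B), x ⊗ₜ[A] (s • c) = 0 ∧ s • x = 0 := by
    intro s hs x c
    refine ⟨?_, ?_⟩
    · rw [Ideal.map] at hs
      induction hs using Submodule.span_induction generalizing c with
      | mem y hy =>
        obtain ⟨a, ha, rfl⟩ := hy
        have h0 : a • x = 0 := by
          have h1 : algebraMap A (EGA4.Cpl A) a ∈ RingHom.ker (algebraMap (EGA4.Cpl A) L) := by
            rw [hker, CplLocH7.maximalIdeal_cpl]; exact Ideal.mem_map_of_mem _ ha
          rw [← algebraMap_smul (EGA4.Cpl A) a x, Algebra.smul_def, (h1 : _ = (0 : L)), zero_mul]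
        rw [algebraMap_smul, ← smul_tmul, h0, zero_tmul]
      | zero => rw [zero_smul, tmul_zero]
      | add y z _ _ hy hz => rw [add_smul, tmul_add, hy, hz, add_zero]
      | smul r y _ hy => rw [smul_eq_mul, mul_comm r y, mul_smul]; exact hy _
    · have h1 : s ∈ RingHom.ker (algebraMap (EGA4.Cpl A) L) := by rw [hker, CplLocH7.maximalIdeal_cpl]; exact hs
      rw [Algebra.smul_def, (h1 : _ = (0 : L)), zero_mul]
  haveI : TensorProduct.CompatibleSMul A (EGA4.Cpl A) L (EGA4.Cpl B) := ⟨fun r x c => by
    obtain ⟨a, ha⟩ := happrox r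
    have h1 := (hzero _ ha x c).1
    have h2 := (hzero _ ha x c).2
    rw [sub_smul, tmul_sub, sub_eq_zero, algebraMap_smul] at h1
    rw [sub_smul, sub_eq_zero, algebraMap_smul] at h2
    rw [← h1, ← h2, smul_tmul]⟩
  haveI : Module.Finite A L := by
    haveI : Module.Finite A (EGA4.Cpl A ⧸ maximalIdeal (EGA4.Cpl A)) := by
      refine Module.Finite.of_surjective (Algebra.linearMap A _) fun y => ?_
      obtain ⟨r, rfl⟩ := Ideal.Quotient.mk_surjective y
      obtain ⟨a, ha⟩ := happrox r
      refine ⟨a, Ideal.Quotient.eq.2 ?_⟩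
      rw [CplLocH7.maximalIdeal_cpl]
      exact ha
    let k' := EGA4.Cpl A ⧸ maximalIdeal (EGA4.Cpl A)
    letI : Algebra k' L :=
      (Ideal.Quotient.lift (maximalIdeal (EGA4.Cpl A)) (algebraMap (EGA4.Cpl A) L) fun x hx =>
        (hker.ge hx : x ∈ RingHom.ker _)).toAlgebra
    haveI : IsScalarTower (EGA4.Cpl A) k' L := .of_algebraMap_eq fun _ => rfl
    haveI : IsScalarTower A k' L := .of_algebraMap_eq fun _ => rfl
    haveI : Module.Finite k' L := Module.Finite.of_restrictScalars_finite (EGA4.Cpl A) k' L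
    exact Module.Finite.trans k' L
  let e := (Algebra.TensorProduct.equivOfCompatibleSMul A (EGA4.Cpl A) L L (EGA4.Cpl B)).toRingEquiv
  exact AllLocal.of_ringEquiv hiso e.symm (fun P' _ => hk_of_closed Q hiso A (EGA4.Cpl B) h L P') P

end Groth.Agent.GRing6
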