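import Groth.Agent.Lib.GRing6.CurveSlice
import Groth.Agent.Lib.CplDomain.J2
import Groth.Agent.Lib.CplDomain.Nagata
import Groth.Agent.Lib.FlatDepth.RingFib
import Mathlib

/-! # Fibres of flat local algebras over complete local rings are controlled by the closed fibre -/

set_option autoImplicit false
set_option linter.style.haveILetI false
universe u

open IsLocalRing TensorProduct

namespace Groth.Agent.GRing6

variable (Q : ∀ (R : Type u) [CommRing R], Prop)
  (hiso : ∀ (R R' : Type u) [CommRing R] [CommRing R'], (R ≃+* R') → Q R → Q R')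

include hiso in
theorem fibLoc_of_fibre {B S : Type u} [CommRing B] [CommRing S] [Algebra B S] (q : Ideal S) [q.IsPrime]
    (h : ∀ (P : Ideal ((q.comap (algebraMap B S)).Fiber S)) [P.IsPrime], Q (Localization.AtPrime P)) :
    Q (EGA4.FibLocRing B S q) := by
  let p : PrimeSpectrum B := PrimeSpectrum.comap (algebraMap B S) ⟨q, ‹_›⟩
  let P := PrimeSpectrum.preimageEquivFiber B S p ⟨⟨q, ‹_›⟩, rfl⟩
  haveI : P.asIdeal.IsPrime := P.isPrime
  have hP : P.asIdeal.comap (Algebra.TensorProduct.includeRight : S →ₐ[B] p.asIdeal.Fiber S) = q :=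
    congrArg (fun x => x.1.asIdeal)
      ((PrimeSpectrum.preimageEquivFiber B S p).symm_apply_apply ⟨⟨q, ‹_›⟩, rfl⟩)
  have key : ∀ (a : Ideal S) [a.IsPrime], a = q →
      Nonempty (Localization.AtPrime P.asIdeal ≃+* EGA4.FibLocRing B S a) →
      Nonempty (Localization.AtPrime P.asIdeal ≃+* EGA4.FibLocRing B S q) := by
    intro a _ e h; subst e; exact h
  obtain ⟨e⟩ := key _ hP
    ⟨(Ideal.Fiber.algEquivAux₂ p.asIdeal P.asIdeal).toRingEquiv.trans (Ideal.quotEquivOfEq (by
      have hp : (P.asIdeal.comap (Algebra.TensorProduct.includeRight : S →ₐ[B] p.asIdeal.Fiber S)).comap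
          (algebraMap B S) = p.asIdeal := by rw [hP]; rfl
      rw [Ideal.map_map, ← IsScalarTower.algebraMap_eq, hp]))⟩
  exact hiso _ _ e (@h P.asIdeal P.isPrime)

include hiso in
theorem fibLoc_baseChange {A B C : Type u} [CommRing A] [CommRing B] [CommRing C] [Algebra A B] [Algebra A C]
    (n : Ideal (B ⊗[A] C)) [n.IsPrime]
    (h : ∀ (P : Ideal ((n.comap (algebraMap B (B ⊗[A] C))).ResidueField ⊗[A] C)) [P.IsPrime],
      Q (Localization.AtPrime P)) : Q (EGA4.FibLocRing B (B ⊗[A] C) n) := by
  refine fibLoc_of_fibre Q hiso n fun P' _ => ?_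
  exact hiso _ _
    (FlatDepth.atPrimeRingEquiv (Algebra.TensorProduct.cancelBaseChange A B (n.comap (algebraMap B (B ⊗[A] C))).ResidueField
      (n.comap (algebraMap B (B ⊗[A] C))).ResidueField C).symm.toRingEquiv P')
    (h _)

variable (hgen : ∀ (R : Type u) [CommRing R] [IsNoetherianRing R] [IsLocalRing R] (P : Ideal R) [P.IsPrime],
    Q R → Q (Localization.AtPrime P))

include hiso hgen in
theorem gen_of_le {S : Type u} [CommRing S] [IsNoetherianRing S] (q n : Ideal S) [q.IsPrime] [n.IsPrime]
    (h : q ≤ n) (hn : Q (Localization.AtPrime n)) : Q (Localization.AtPrime q) := by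
  let T := Localization.AtPrime n
  haveI : IsNoetherianRing T := IsLocalization.isNoetherianRing n.primeCompl T inferInstance
  have hdisj : Disjoint (n.primeCompl : Set S) (q : Set S) := Set.disjoint_left.2 fun x hx hxq => hx (h hxq)
  let P := q.map (algebraMap S T)
  haveI : P.IsPrime := IsLocalization.isPrime_of_isPrime_disjoint n.primeCompl T q ‹_› hdisj
  have hc : P.comap (algebraMap S T) = q := IsLocalization.under_map_of_isPrime_disjoint n.primeCompl T ‹_› hdisj
  haveI : IsLocalization.AtPrime (Localization.AtPrime P) q := by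
    have h1 := IsLocalization.isLocalization_isLocalization_atPrime_isLocalization n.primeCompl (Localization.AtPrime P) P
    simpa only [hc] using h1
  exact hiso _ _ (IsLocalization.algEquiv q.primeCompl (Localization.AtPrime P) _).toRingEquiv (hgen T P hn)

variable (hup : ∀ (B S : Type u) [CommRing B] [CommRing S] [Algebra B S] [IsNoetherianRing B] [IsNoetherianRing S]
    [Module.Flat B S] (q : Ideal S) [q.IsPrime],
    IsRegularLocalRing (Localization.AtPrime (q.comap (algebraMap B S))) → Q (EGA4.FibLocRing B S q) →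
      Q (Localization.AtPrime q))
  (A C : Type u) [CommRing A] [CommRing C] [IsLocalRing A] [IsNoetherianRing A] [IsAdicComplete (maximalIdeal A) A]
  [IsLocalRing C] [IsNoetherianRing C] [Algebra A C] [IsLocalHom (algebraMap A C)] [Module.Flat A C]
  [Module.Finite (ResidueField A) (ResidueField C)]
  (hk : ∀ (K : Type u) [Field K] [Algebra A K] [Module.Finite A K] (P : Ideal (K ⊗[A] C)) [P.IsPrime],
    Q (Localization.AtPrime P))

include hiso hup hk in
theorem core_regularRing (B : Type u) [CommRing B] [IsRegularRing B] [Algebra A B] [Module.Finite A B]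
    (n : Ideal (B ⊗[A] C)) [n.IsMaximal] : Q (Localization.AtPrime n) := by
  let S := B ⊗[A] C
  haveI : IsNoetherianRing (C ⊗[A] B) := IsNoetherianRing.of_finite C _
  haveI : IsNoetherianRing S :=
    isNoetherianRing_of_ringEquiv (C ⊗[A] B) (Algebra.TensorProduct.comm A C B).toRingEquiv
  haveI hn : n.IsPrime := Ideal.IsMaximal.isPrime ‹_›
  have hnC : (n.comap (Algebra.TensorProduct.includeRight : C →ₐ[A] S).toRingHom).IsMaximal := by
    refine Ideal.isMaximal_comap_of_isIntegral_of_isMaximal' _ (RingHom.Finite.to_isIntegral ?_) n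
    have he : (Algebra.TensorProduct.includeRight : C →ₐ[A] S).toRingHom =
        (Algebra.TensorProduct.comm A C B).toRingEquiv.toRingHom.comp (algebraMap C (C ⊗[A] B)) :=
      RingHom.ext fun x => rfl
    rw [he]
    exact (RingHom.Finite.of_surjective _ (Algebra.TensorProduct.comm A C B).toRingEquiv.surjective).comp
      (RingHom.finite_algebraMap.2 inferInstance)
  let p := n.comap (algebraMap B S)
  have hpA : p.comap (algebraMap A B) = maximalIdeal A := by
    refine ((maximalIdeal.isMaximal A).eq_of_le (Ideal.IsPrime.ne_top inferInstance) fun a ha => ?_).symm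
    show algebraMap B S (algebraMap A B a) ∈ n
    have h1 : algebraMap A C a ∈ n.comap (Algebra.TensorProduct.includeRight : C →ₐ[A] S).toRingHom := by
      rw [IsLocalRing.eq_maximalIdeal hnC]; exact map_nonunit (algebraMap A C) a ha
    have h2 : (Algebra.TensorProduct.includeRight : C →ₐ[A] S) (algebraMap A C a) ∈ n := h1
    rw [AlgHom.commutes, IsScalarTower.algebraMap_apply A B S] at h2
    exact h2
  haveI : Algebra.IsIntegral A B := Algebra.IsIntegral.of_finite A B
  haveI : p.IsMaximal := Ideal.isMaximal_of_isIntegral_of_isMaximal_comap p (hpA ▸ maximalIdeal.isMaximal A)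
  haveI : Module.Finite A p.ResidueField :=
    Module.Finite.of_surjective (IsScalarTower.toAlgHom A B p.ResidueField).toLinearMap
      (Ideal.algebraMap_residueField_surjective p)
  haveI hregB : IsRegularRing B := inferInstance
  have h1 : IsRegularLocalRing (Localization.AtPrime (n.comap (algebraMap B S))) :=
    IsRegularRing.isRegularLocalRing_localization p
  have h2 : Q (EGA4.FibLocRing B S n) := fibLoc_baseChange Q hiso n fun P' _ => hk p.ResidueField P'
  exact hup B S n h1 h2

include hiso hgen hup hk in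
theorem core_dimensionLEOne (B : Type u) [CommRing B] [IsDomain B] [Ring.DimensionLEOne B] [Algebra A B]
    [Module.Finite A B] (q : Ideal (B ⊗[A] C)) [q.IsPrime] (hq : q.comap (algebraMap B (B ⊗[A] C)) = ⊥) :
    Q (Localization.AtPrime q) := by
  let K := FractionRing B
  obtain ⟨P, _, ⟨e⟩⟩ := exists_atPrime_equiv A C B K q hq
  obtain ⟨_, hcB⟩ := CplDomain.completeLocal_of_finite A B
  haveI := hcB
  haveI : IsNoetherianRing B := IsNoetherianRing.of_finite A B
  let B' := integralClosure B K
  haveI : Module.Finite B B' := CplDomain.isN2_of_complete B K inferInstance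
  haveI : Module.Finite A B' := Module.Finite.trans B B'
  haveI : IsFractionRing B' K := integralClosure.isFractionRing_of_finite_extension K K
  haveI : IsNoetherianRing B' := IsNoetherianRing.of_finite A B'
  haveI : IsIntegrallyClosed B' := integralClosure.isIntegrallyClosedOfFiniteExtension K
  haveI : Ring.DimensionLEOne B' := Ring.DimensionLEOne.of_isIntegral B B'
  haveI : IsDedekindDomain B' := { }
  obtain ⟨q', _, -, ⟨e'⟩⟩ := exists_atPrime_equiv' A C B' K P
  refine hiso _ _ (e'.symm.trans e) ?_
  haveI : IsRegularRing B' := inferInstance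
  haveI : IsNoetherianRing (C ⊗[A] B') := IsNoetherianRing.of_finite C _
  haveI : IsNoetherianRing (B' ⊗[A] C) :=
    isNoetherianRing_of_ringEquiv (C ⊗[A] B') (Algebra.TensorProduct.comm A C B').toRingEquiv
  obtain ⟨n, hn, hqn⟩ := Ideal.exists_le_maximal q' (Ideal.IsPrime.ne_top inferInstance)
  haveI := hn.isPrime
  exact gen_of_le Q hiso hgen q' n hqn (core_regularRing Q hiso hup A C hk B' n)

include hiso hgen hup hk in
/-- Over every finite domain, the generic fibre has the property. -/
theorem core_generic (B : Type u) [CommRing B] [IsDomain B] [Algebra A B] [Module.Finite A B]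
    (q : Ideal (B ⊗[A] C)) [q.IsPrime] (hq : q.comap (algebraMap B (B ⊗[A] C)) = ⊥) :
    Q (Localization.AtPrime q) := by
  obtain ⟨_, hcB⟩ := CplDomain.completeLocal_of_finite A B
  haveI := hcB
  haveI : IsNoetherianRing B := IsNoetherianRing.of_finite A B
  obtain ⟨U, hU, ⟨x, hx⟩, hUreg⟩ := CplDomain.regLocus_open_of_complete_domain B
  have hbot : (⟨⊥, Ideal.isPrime_bot⟩ : PrimeSpectrum B) ∈ U :=
    hU.stableUnderGeneralization ((PrimeSpectrum.le_iff_specializes _ _).1 bot_le) hx
  obtain ⟨_, ⟨c, rfl⟩, hbc, hcU⟩ :=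
    PrimeSpectrum.isTopologicalBasis_basic_opens.exists_subset_of_mem_open hbot hU
  have hc : c ∉ q.comap (algebraMap B (B ⊗[A] C)) := by rw [hq]; exact hbc
  obtain ⟨W, _, hqW, hcW, hdim⟩ := exists_prime_slice A B C c q hc
  let S := B ⊗[A] C
  haveI : IsNoetherianRing (C ⊗[A] B) := IsNoetherianRing.of_finite C _
  haveI : IsNoetherianRing S :=
    isNoetherianRing_of_ringEquiv (C ⊗[A] B) (Algebra.TensorProduct.comm A C B).toRingEquiv
  refine gen_of_le Q hiso hgen q W hqW ?_
  let P := W.comap (algebraMap B S)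
  haveI : P.IsPrime := inferInstance
  haveI : Ring.DimensionLEOne (B ⧸ P) := hdim
  refine hup B S W (hUreg (hcU hcW : (⟨P, inferInstance⟩ : PrimeSpectrum B) ∈ U))
    (fibLoc_baseChange Q hiso W fun P' _ => ?_)
  obtain ⟨q'', _, hq'', ⟨e'⟩⟩ := exists_atPrime_equiv' A C (B ⧸ P) P.ResidueField P'
  exact hiso _ _ e'.symm (core_dimensionLEOne Q hiso hgen hup A C hk (B ⧸ P) q'' hq'')

end Groth.Agent.GRing6
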