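import Groth.Agent.Lib.GRing6.ClosedFibreCore
import Groth.Agent.Lib.Hironaka.NormalLift
import Groth.Agent.Lib.RegLoc.Basic
import Groth.Agent.Lib.Cohen.CMLocus
import Groth.Agent.Lib.Depth.CM
import Groth.Agent.Lib.FlatDepth.RkFlat
import Groth.Agent.Lib.RegLoc.GlobalDim
import Mathlib

/-! # Local properties lifting along regular base rings -/

set_option autoImplicit false
set_option linter.style.haveILetI false
universe u

open IsLocalRing TensorProduct

namespace Groth.Agent.GRing6

theorem lift_regular (Q : ∀ (R : Type u) [CommRing R], Prop)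
    (hiso : ∀ (R R' : Type u) [CommRing R] [CommRing R'], (R ≃+* R') → Q R → Q R')
    (hlift : ∀ (S : Type u) [CommRing S] [IsLocalRing S] [IsNoetherianRing S] (t : S), t ∈ maximalIdeal S →
      IsSMulRegular S t → Q (S ⧸ Ideal.span {t}) → Q S) :
    ∀ (n : ℕ) (R S : Type u) [CommRing R] [CommRing S] [IsRegularLocalRing R] [IsLocalRing S] [IsNoetherianRing S]
      [Algebra R S] [IsLocalHom (algebraMap R S)] [Module.Flat R S],
      (maximalIdeal R).spanFinrank = n → Q (S ⧸ (maximalIdeal R).map (algebraMap R S)) → Q S := by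
  intro n
  induction n using Nat.strong_induction_on with
  | _ n ih =>
    intro R S _ _ _ _ _ _ _ _ hn h
    by_cases hF : IsField R
    · rw [(IsLocalRing.isField_iff_maximalIdeal_eq).1 hF, Ideal.map_bot] at h
      exact hiso _ _ (RingEquiv.quotientBot S) h
    · obtain ⟨x, hx, hx2, -⟩ := RegLoc.exists_mem_notMem_sq_notMem_minimalPrimes hF
      obtain ⟨_, hk⟩ := RegLoc.quotient_span_singleton hx hx2
      haveI := RegLoc.isDomain R
      have hx0 : x ≠ 0 := fun e => hx2 (e ▸ Submodule.zero_mem _)
      let t := algebraMap R S x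
      have ht : t ∈ maximalIdeal S := map_nonunit (algebraMap R S) x hx
      have htreg : IsSMulRegular S t :=
        (IsSMulRegular.of_flat (S := S) (fun a b h => mul_left_cancel₀ hx0 h : IsSMulRegular R x))
      let I : Ideal R := Ideal.span {x}
      let J : Ideal S := I.map (algebraMap R S)
      have hJ : J = Ideal.span {t} := by simp [J, I, t, Ideal.map_span]
      refine hlift S t ht htreg (hiso _ _ (Ideal.quotEquivOfEq hJ) ?_)
      let φ : R ⧸ I →+* S ⧸ J := Ideal.quotientMap J (algebraMap R S) Ideal.le_comap_map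
      letI : Algebra (R ⧸ I) (S ⧸ J) := φ.toAlgebra
      haveI : IsScalarTower R (R ⧸ I) (S ⧸ J) := .of_algebraMap_eq fun a => rfl
      have hJm : J ≤ maximalIdeal S := by rw [hJ, Ideal.span_singleton_le_iff_mem]; exact ht
      haveI : IsLocalRing (S ⧸ J) :=
        RegLoc.isLocalRing_quotient (ne_top_of_le_ne_top (maximalIdeal.isMaximal S).ne_top hJm)
      haveI : IsLocalHom (algebraMap (R ⧸ I) (S ⧸ J)) := by
        refine ⟨fun a ha => ?_⟩
        obtain ⟨a, rfl⟩ := Ideal.Quotient.mk_surjective a
        by_contra hu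
        have ha' : a ∈ maximalIdeal R := fun hau => hu (hau.map _)
        have h1 : algebraMap R S a ∈ maximalIdeal S := map_nonunit _ _ ha'
        refine (mem_maximalIdeal _).1 ?_ ha
        rw [RegLoc.maximalIdeal_quotient]
        exact Ideal.mem_map_of_mem _ h1
      haveI : Module.Flat (R ⧸ I) (S ⧸ J) := by
        let e : (R ⧸ I) ⊗[R] S ≃ₗ[R] S ⧸ J :=
          (TensorProduct.comm R (R ⧸ I) S).trans
            ((Algebra.TensorProduct.quotIdealMapEquivTensorQuot S I).symm.toLinearEquiv.restrictScalars R)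
        exact Module.Flat.of_linearEquiv
          (e.extendScalarsOfSurjective (Ideal.Quotient.mk_surjective : Function.Surjective (algebraMap R (R ⧸ I)))).symm
      refine ih _ ?_ (R ⧸ I) (S ⧸ J) rfl ?_
      · rw [← hn, ← hk]; exact Nat.lt_succ_self _
      · have hmap : (maximalIdeal (R ⧸ I)).map (algebraMap (R ⧸ I) (S ⧸ J)) =
            ((maximalIdeal R).map (algebraMap R S)).map (Ideal.Quotient.mk J) := by
          rw [RegLoc.maximalIdeal_quotient, Ideal.map_map, Ideal.map_map]
          rfl
        have hJle : J ≤ (maximalIdeal R).map (algebraMap R S) :=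
          Ideal.map_mono ((Ideal.span_singleton_le_iff_mem _).2 hx)
        exact hiso _ _ ((Ideal.quotEquivOfEq hmap).trans (DoubleQuot.quotQuotEquivQuotOfLE hJle)).symm h

theorem hup_of_lift (Q : ∀ (R : Type u) [CommRing R], Prop)
    (hiso : ∀ (R R' : Type u) [CommRing R] [CommRing R'], (R ≃+* R') → Q R → Q R')
    (hlift : ∀ (S : Type u) [CommRing S] [IsLocalRing S] [IsNoetherianRing S] (t : S), t ∈ maximalIdeal S →
      IsSMulRegular S t → Q (S ⧸ Ideal.span {t}) → Q S)
    (B S : Type u) [CommRing B] [CommRing S] [Algebra B S] [IsNoetherianRing B] [IsNoetherianRing S]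
    [Module.Flat B S] (q : Ideal S) [q.IsPrime]
    (hB : IsRegularLocalRing (Localization.AtPrime (q.comap (algebraMap B S))))
    (h : Q (EGA4.FibLocRing B S q)) : Q (Localization.AtPrime q) := by
  let p := q.comap (algebraMap B S)
  haveI : q.LiesOver p := ⟨rfl⟩
  letI := Localization.AtPrime.algebraOfLiesOver p q
  haveI : IsLocalHom (algebraMap (Localization.AtPrime p) (Localization.AtPrime q)) :=
    Localization.isLocalHom_localRingHom p q (algebraMap B S) rfl
  haveI : Module.Flat B (Localization.AtPrime q) := Module.Flat.trans B S _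
  haveI : Module.Flat (Localization.AtPrime p) (Localization.AtPrime q) :=
    (Module.flat_iff_of_isLocalization (Localization.AtPrime p) p.primeCompl _).2 inferInstance
  haveI : IsNoetherianRing (Localization.AtPrime q) := IsLocalization.isNoetherianRing q.primeCompl _ inferInstance
  haveI := hB
  refine lift_regular Q hiso hlift _ (Localization.AtPrime p) (Localization.AtPrime q) rfl
    (hiso _ _ (Ideal.quotEquivOfEq ?_) h)
  rw [← Localization.AtPrime.map_eq_maximalIdeal, Ideal.map_map, ← IsScalarTower.algebraMap_eq]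

theorem isReduced_lift (S : Type u) [CommRing S] [IsLocalRing S] [IsNoetherianRing S] (t : S)
    (ht : t ∈ maximalIdeal S) (hreg : IsSMulRegular S t) (h : IsReduced (S ⧸ Ideal.span {t})) : IsReduced S := by
  rw [← nilradical_eq_bot_iff]
  refine Submodule.eq_bot_of_le_smul_of_le_jacobson_bot (Ideal.span {t}) _ (IsNoetherian.noetherian _) ?_
    (((Ideal.span_singleton_le_iff_mem _).2 ht).trans (maximalIdeal_le_jacobson _))
  intro a ha
  obtain ⟨k, hk⟩ := mem_nilradical.1 ha
  have h0 : Ideal.Quotient.mk (Ideal.span {t}) a = 0 :=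
    IsNilpotent.eq_zero ⟨k, by rw [← map_pow, hk, map_zero]⟩
  obtain ⟨b, rfl⟩ := Ideal.mem_span_singleton.1 (Ideal.Quotient.eq_zero_iff_mem.1 h0)
  refine Submodule.smul_mem_smul (Ideal.mem_span_singleton_self t) (mem_nilradical.2 ⟨k, ?_⟩)
  refine hreg.pow k ?_
  simp only [smul_eq_mul, mul_zero]
  rw [← mul_pow]
  exact hk

theorem isDomain_lift (S : Type u) [CommRing S] [IsLocalRing S] [IsNoetherianRing S] (t : S)
    (ht : t ∈ maximalIdeal S) (hreg : IsSMulRegular S t) (h : IsDomain (S ⧸ Ideal.span {t})) : IsDomain S := by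
  haveI hP : (Ideal.span {t}).IsPrime := (Ideal.Quotient.isDomain_iff_prime _).1 h
  obtain ⟨r, hr, hrle⟩ := Ideal.exists_minimalPrimes_le (bot_le : (⊥ : Ideal S) ≤ Ideal.span {t})
  haveI hr1 : r.IsPrime := hr.1.1
  have htr : t ∉ r := fun htr => by
    exact Set.disjoint_left.1
      (Ideal.disjoint_nonZeroDivisors_of_mem_minimalPrimes (R := S) hr) htr (mem_nonZeroDivisors_iff.2 ⟨fun z hz =>
        hreg (by simpa [mul_comm] using hz), fun z hz => hreg (by simpa [mul_comm] using hz)⟩)
  have hr0 : r = ⊥ := by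
    refine Submodule.eq_bot_of_le_smul_of_le_jacobson_bot (Ideal.span {t}) _ (IsNoetherian.noetherian _) ?_
      (((Ideal.span_singleton_le_iff_mem _).2 ht).trans (maximalIdeal_le_jacobson _))
    intro a ha
    obtain ⟨b, rfl⟩ := Ideal.mem_span_singleton.1 (hrle ha)
    exact Submodule.smul_mem_smul (Ideal.mem_span_singleton_self t) ((hr1.mem_or_mem ha).resolve_left htr)
  haveI : (⊥ : Ideal S).IsPrime := hr0 ▸ hr1
  exact IsDomain.of_bot_isPrime S

theorem normal_lift (S : Type u) [CommRing S] [IsLocalRing S] [IsNoetherianRing S] (t : S)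
    (ht : t ∈ maximalIdeal S) (hreg : IsSMulRegular S t)
    (h : IsDomain (S ⧸ Ideal.span {t}) ∧ IsIntegrallyClosed (S ⧸ Ideal.span {t})) :
    IsDomain S ∧ IsIntegrallyClosed S := by
  haveI := isDomain_lift S t ht hreg h.1
  haveI := h.2
  refine ⟨inferInstance, Hironaka.isIntegrallyClosed_of_quotient_span_singleton ht ?_
    ((Ideal.Quotient.isDomain_iff_prime _).1 h.1)⟩
  rintro rfl
  exact one_ne_zero (hreg (by simp : (0 : S) • (1 : S) = (0 : S) • (0 : S)))

end Groth.Agent.GRing6
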