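import Groth.Agent.Lib.GRing6.FiniteDomains
import Groth.Agent.Lib.CplDomain.Normalization
import Mathlib

/-! # One-dimensional slices of finite base changes over complete local rings -/

set_option autoImplicit false
set_option linter.style.haveILetI false
universe u

open IsLocalRing TensorProduct

namespace Groth.Agent.GRing6

/-- In a Noetherian domain with a nonzero element lying in every nonzero prime, nonzero primes are maximal. -/
theorem dimensionLEOne_of_mem_all_primes (D : Type u) [CommRing D] [IsDomain D] [IsNoetherianRing D] {c : D}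
    (hc : c ≠ 0) (h : ∀ (P : Ideal D) [P.IsPrime], P ≠ ⊥ → c ∈ P) : Ring.DimensionLEOne D := by
  refine ⟨fun {P} hP0 hP => ?_⟩
  by_contra hmax
  obtain ⟨M, hM, hPM⟩ := Ideal.exists_le_maximal P hP.ne_top
  have hlt : P < M := lt_of_le_of_ne hPM fun e => hmax (e ▸ hM)
  have hfin := Ideal.finite_minimalPrimes_of_isNoetherianRing D (Ideal.span {c})
  have hcP : Ideal.span {c} ≤ P := (Ideal.span_singleton_le_iff_mem _).2 (h P hP0)
  have hnot : ¬ ((M : Set D) ⊆ ⋃ f ∈ (hfin.toFinset : Set (Ideal D)), (f : Set D)) := by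
    rw [Ideal.subset_union_prime ⊥ ⊥ fun f hf _ _ => (hfin.mem_toFinset.1 hf).1.1]
    rintro ⟨f, hf, hMf⟩
    have hfm := hfin.mem_toFinset.1 hf
    exact lt_irrefl P (hlt.trans_le (hMf.trans (hfm.2 ⟨hP, hcP⟩ (hPM.trans hMf))))
  obtain ⟨x, hxM, hx⟩ := Set.not_subset.1 hnot
  obtain ⟨r, hr, hrM⟩ := Ideal.exists_minimalPrimes_le ((Ideal.span_singleton_le_iff_mem M).2 hxM)
  haveI := hr.1.1
  have hxr : x ∈ r := hr.1.2 (Ideal.mem_span_singleton_self x)
  have hr1 : r.height ≤ 1 := Ideal.height_le_one_of_isPrincipal_of_mem_minimalPrimes (Ideal.span {x}) r hr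
  have hr0 : r ≠ ⊥ := fun e => by
    obtain rfl : x = 0 := by simpa [e] using hxr
    obtain ⟨f, hf, -⟩ := Ideal.exists_minimalPrimes_le hcP
    exact hx (Set.mem_biUnion (hfin.mem_toFinset.2 hf) f.zero_mem)
  obtain ⟨f, hf, hfr⟩ := Ideal.exists_minimalPrimes_le ((Ideal.span_singleton_le_iff_mem r).2 (h r hr0))
  haveI := hf.1.1
  have hf0 : ⊥ < f := bot_lt_iff_ne_bot.2 fun e => hc (by simpa [e] using hf.1.2 (Ideal.mem_span_singleton_self c))
  rcases eq_or_lt_of_le hfr with e | hlt'
  · exact hx (Set.mem_biUnion (hfin.mem_toFinset.2 hf) (e ▸ hxr))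
  · have h1 := Ideal.height_strict_mono_of_isPrime hlt'
    have h2 := Ideal.height_strict_mono_of_isPrime (I := ⊥) hf0
    have h3 : f.height = 0 := Order.lt_one_iff.1 (h1.trans_le hr1)
    rw [h3] at h2
    exact not_lt_bot h2

/-- Above any prime of `B ⊗[A] C` not containing `c`, there is one not containing `c` with at most one-dimensional
image in `B`. -/
theorem exists_prime_slice (A B C : Type u) [CommRing A] [CommRing B] [CommRing C] [IsLocalRing A] [IsNoetherianRing A]
    [IsAdicComplete (maximalIdeal A) A] [Algebra A B] [Module.Finite A B] [IsLocalRing C] [IsNoetherianRing C]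
    [Algebra A C] [IsLocalHom (algebraMap A C)] [Module.Finite (ResidueField A) (ResidueField C)]
    (c : B) (q : Ideal (B ⊗[A] C)) [q.IsPrime] (hc : c ∉ q.comap (algebraMap B (B ⊗[A] C))) :
    ∃ (W : Ideal (B ⊗[A] C)) (_ : W.IsPrime), q ≤ W ∧ c ∉ W.comap (algebraMap B (B ⊗[A] C)) ∧
      Ring.DimensionLEOne (B ⧸ W.comap (algebraMap B (B ⊗[A] C))) := by
  set S := B ⊗[A] C
  haveI : IsNoetherianRing (C ⊗[A] B) := IsNoetherianRing.of_finite C _
  haveI : IsNoetherianRing S :=
    isNoetherianRing_of_ringEquiv (C ⊗[A] B) (Algebra.TensorProduct.comm A C B).toRingEquiv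
  set c' := algebraMap B S c
  obtain ⟨W, hWd, hmax⟩ := (set_has_maximal_iff_noetherian.2 (inferInstance : IsNoetherian S S))
    {I : Ideal S | I.IsPrime ∧ q ≤ I ∧ c' ∉ I} ⟨q, inferInstance, le_rfl, hc⟩
  obtain ⟨hW, hqW, hcW⟩ := hWd
  haveI := hW
  refine ⟨W, hW, hqW, hcW, ?_⟩
  haveI hD : Ring.DimensionLEOne (S ⧸ W) := by
    refine dimensionLEOne_of_mem_all_primes (S ⧸ W) (c := Ideal.Quotient.mk W c')
      (fun h => hcW (Ideal.Quotient.eq_zero_iff_mem.1 h)) fun P _ hP => ?_
    by_contra hcP
    refine hP ?_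
    have hWP : W ≤ P.comap (Ideal.Quotient.mk W) := (Ideal.mk_ker (I := W)).symm.le.trans (Ideal.comap_mono bot_le)
    have := hmax (P.comap (Ideal.Quotient.mk W)) ⟨inferInstance, hqW.trans hWP, fun h => hcP h⟩
    rw [← Ideal.map_comap_of_surjective (Ideal.Quotient.mk W) Ideal.Quotient.mk_surjective P,
      eq_of_le_of_not_lt hWP this |>.symm, Ideal.map_quotient_self]
  let P : Ideal B := Ideal.comap (algebraMap B S) W
  by_cases hm : (maximalIdeal A).map (algebraMap A S) ≤ W
  · haveI : Algebra.IsIntegral A B := Algebra.IsIntegral.of_finite A B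
    haveI : P.IsPrime := inferInstance
    have hPm : P.comap (algebraMap A B) = maximalIdeal A := by
      refine ((maximalIdeal.isMaximal A).eq_of_le (Ideal.IsPrime.ne_top inferInstance) fun a ha => ?_).symm
      show algebraMap B S (algebraMap A B a) ∈ W
      rw [← IsScalarTower.algebraMap_apply]
      exact hm (Ideal.mem_map_of_mem _ ha)
    haveI : P.IsMaximal := Ideal.isMaximal_of_isIntegral_of_isMaximal_comap P (hPm ▸ maximalIdeal.isMaximal A)
    letI := Ideal.Quotient.field P
    exact ⟨fun {I} hI _ => ((Ideal.eq_bot_or_top I).resolve_left hI ▸ Ideal.IsPrime.ne_top ‹_› |> fun h => absurd rfl h)⟩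
  · let g : C →ₐ[A] S ⧸ W := (Ideal.Quotient.mkₐ A W).comp Algebra.TensorProduct.includeRight
    have hgfin : g.toRingHom.Finite := by
      have he : g.toRingHom = ((Ideal.Quotient.mk W).comp (Algebra.TensorProduct.comm A C B).toRingEquiv.toRingHom).comp
          (algebraMap C (C ⊗[A] B)) := RingHom.ext fun x => rfl
      rw [he]
      exact (RingHom.Finite.of_surjective _ (fun y => by
        obtain ⟨z, rfl⟩ := Ideal.Quotient.mk_surjective y
        exact ⟨(Algebra.TensorProduct.comm A C B).symm z, congrArg (Ideal.Quotient.mk W)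
          ((Algebra.TensorProduct.comm A C B).apply_symm_apply z)⟩)).comp
        (RingHom.finite_algebraMap.2 inferInstance)
    let K := RingHom.ker g.toRingHom
    let gq : C ⧸ K →ₐ[A] S ⧸ W := Ideal.Quotient.liftₐ K g fun _ h => h
    have hginj : Function.Injective gq := by
      rw [injective_iff_map_eq_zero]
      intro x hx
      obtain ⟨x, rfl⟩ := Ideal.Quotient.mk_surjective x
      exact Ideal.Quotient.eq_zero_iff_mem.2 hx
    letI : Algebra (C ⧸ K) (S ⧸ W) := gq.toRingHom.toAlgebra
    haveI : IsScalarTower A (C ⧸ K) (S ⧸ W) := .of_algebraMap_eq fun a => (gq.commutes a).symm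
    haveI : Module.Finite (C ⧸ K) (S ⧸ W) :=
      RingHom.finite_algebraMap.1 (RingHom.Finite.of_comp_finite (f := Ideal.Quotient.mk K) hgfin)
    haveI : K.IsPrime := RingHom.ker_isPrime _
    haveI : IsLocalRing (C ⧸ K) := IsLocalRing.of_surjective' (Ideal.Quotient.mk K) Ideal.Quotient.mk_surjective
    haveI : FaithfulSMul (C ⧸ K) (S ⧸ W) := (faithfulSMul_iff_algebraMap_injective _ _).2 hginj
    let J := (maximalIdeal A).map (algebraMap A (C ⧸ K))
    have hJ : J ≤ maximalIdeal (C ⧸ K) := by
      rw [Ideal.map_le_iff_le_comap]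
      intro a ha
      show algebraMap A (C ⧸ K) a ∈ maximalIdeal (C ⧸ K)
      rw [IsScalarTower.algebraMap_apply A C (C ⧸ K), Ideal.Quotient.algebraMap_eq,
        ← IsLocalRing.map_maximalIdeal_of_surjective (Ideal.Quotient.mk K) Ideal.Quotient.mk_surjective]
      exact Ideal.mem_map_of_mem _ (map_nonunit (algebraMap A C) a ha)
    haveI : IsLocalRing ((C ⧸ K) ⧸ J) :=
      haveI := Ideal.Quotient.nontrivial_iff.2 (fun h => (maximalIdeal.isMaximal (C ⧸ K)).ne_top (top_le_iff.1 (h ▸ hJ)))
      IsLocalRing.of_surjective' (Ideal.Quotient.mk J) Ideal.Quotient.mk_surjective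
    haveI : IsArtinianRing ((C ⧸ K) ⧸ J) := by
      refine isArtinianRing_iff_krullDimLE_zero.2 (Ring.KrullDimLE.mk₀ fun p hp => ?_)
      let p' := p.comap (Ideal.Quotient.mk J)
      haveI : Algebra.IsIntegral (C ⧸ K) (S ⧸ W) := Algebra.IsIntegral.of_finite _ _
      obtain ⟨Q, -, hQ, hQp⟩ := Ideal.exists_ideal_over_prime_of_isIntegral p' (⊥ : Ideal (S ⧸ W)) (by
        intro x hx
        obtain rfl : x = 0 := hginj (by rw [map_zero]; exact Ideal.mem_bot.1 hx)
        exact p'.zero_mem)
      haveI := hQ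
      have hQ0 : Q ≠ ⊥ := by
        rintro rfl
        refine hm (Ideal.map_le_iff_le_comap.2 fun a ha => ?_)
        have h1 : algebraMap A (C ⧸ K) a ∈ p' := by
          show Ideal.Quotient.mk J _ ∈ p
          rw [Ideal.Quotient.eq_zero_iff_mem.2 (Ideal.mem_map_of_mem (algebraMap A (C ⧸ K)) ha)]
          exact p.zero_mem
        rw [← hQp] at h1
        have h2 : algebraMap A (S ⧸ W) a = 0 := by
          rw [IsScalarTower.algebraMap_apply A (C ⧸ K) (S ⧸ W)]; exact Ideal.mem_bot.1 h1
        rw [IsScalarTower.algebraMap_apply A S (S ⧸ W), Ideal.Quotient.algebraMap_eq] at h2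
        show algebraMap A S a ∈ W
        exact Ideal.Quotient.eq_zero_iff_mem.1 h2
      haveI : Q.IsMaximal := Ideal.IsPrime.isMaximal hQ hQ0
      have hp' : p'.IsMaximal := hQp ▸ Ideal.isMaximal_comap_of_isIntegral_of_isMaximal Q
      rw [← Ideal.map_comap_of_surjective (Ideal.Quotient.mk J) Ideal.Quotient.mk_surjective p]
      exact Ideal.IsMaximal.map_of_surjective_of_ker_le Ideal.Quotient.mk_surjective
        (by
          rw [Ideal.mk_ker]
          intro x hx
          show Ideal.Quotient.mk J x ∈ p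
          rw [Ideal.Quotient.eq_zero_iff_mem.2 hx]
          exact p.zero_mem)
    haveI : Module.Finite A ((C ⧸ K) ⧸ J) := by
      haveI : Module.Finite A (ResidueField A) :=
        Module.Finite.of_surjective (Algebra.linearMap A (ResidueField A)) IsLocalRing.residue_surjective
      haveI : IsScalarTower A (ResidueField A) (ResidueField C) := IsScalarTower.of_algebraMap_eq fun a => by
        rw [IsScalarTower.algebraMap_apply A C (ResidueField C)]
        rfl
      haveI : Module.Finite A (ResidueField C) := Module.Finite.trans (ResidueField A) _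
      let f : C →ₐ[A] (C ⧸ K) ⧸ J := (Ideal.Quotient.mkₐ A J).comp (Ideal.Quotient.mkₐ A K)
      have hfs : Function.Surjective f := Ideal.Quotient.mk_surjective.comp Ideal.Quotient.mk_surjective
      let T := (C ⧸ K) ⧸ J
      haveI : Module.Finite A (T ⧸ Ring.jacobson T) := by
        let h : C →ₐ[A] T ⧸ Ring.jacobson T := (Ideal.Quotient.mkₐ A _).comp f
        have hm' : maximalIdeal C ≤ RingHom.ker h.toRingHom := by
          intro x hx
          show Ideal.Quotient.mk (Ring.jacobson T) (f x) = 0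
          rw [Ideal.Quotient.eq_zero_iff_mem, IsLocalRing.ringJacobson_eq_maximalIdeal,
            ← IsLocalRing.map_maximalIdeal_of_surjective (f : C →+* T) hfs]
          exact Ideal.mem_map_of_mem _ hx
        let r : ResidueField C →+* T ⧸ Ring.jacobson T := Ideal.Quotient.lift (maximalIdeal C) h.toRingHom fun x hx => hm' hx
        have hr : ∀ a : A, r (algebraMap A (ResidueField C) a) = algebraMap A (T ⧸ Ring.jacobson T) a := by
          intro a
          rw [IsScalarTower.algebraMap_apply A C (ResidueField C)]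
          exact h.commutes a
        let rA : ResidueField C →ₐ[A] T ⧸ Ring.jacobson T := { r with commutes' := hr }
        refine Module.Finite.of_surjective rA.toLinearMap ?_
        intro y
        obtain ⟨t, rfl⟩ := Ideal.Quotient.mk_surjective y
        obtain ⟨x, rfl⟩ := hfs t
        exact ⟨residue C x, rfl⟩
      exact IsSemiprimaryRing.finite_of_isArtinian A T T
    haveI : IsHausdorff J (C ⧸ K) :=
      IsHausdorff.of_le_jacobson J (C ⧸ K) (hJ.trans (maximalIdeal_le_jacobson ⊥))
    haveI : Module.Finite A (C ⧸ K) := CplDomain.finite_of_reduction (maximalIdeal A)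
    haveI : Module.Finite A (S ⧸ W) := Module.Finite.trans (C ⧸ K) _
    haveI : Algebra.IsIntegral A (S ⧸ W) := Algebra.IsIntegral.of_finite _ _
    let φ : B ⧸ P →+* S ⧸ W := Ideal.quotientMap W (algebraMap B S) le_rfl
    letI : Algebra (B ⧸ P) (S ⧸ W) := φ.toAlgebra
    haveI : FaithfulSMul (B ⧸ P) (S ⧸ W) :=
      (faithfulSMul_iff_algebraMap_injective _ _).2 Ideal.quotientMap_injective
    haveI : IsScalarTower A (B ⧸ P) (S ⧸ W) := .of_algebraMap_eq fun a => by
      rw [IsScalarTower.algebraMap_apply A B (B ⧸ P), IsScalarTower.algebraMap_apply A S (S ⧸ W),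
        IsScalarTower.algebraMap_apply A B S]
      rfl
    haveI : Algebra.IsIntegral (B ⧸ P) (S ⧸ W) := Algebra.IsIntegral.tower_top A
    refine ⟨fun {I} hI hIp => ?_⟩
    obtain ⟨Q, -, hQ, hQI⟩ := Ideal.exists_ideal_over_prime_of_isIntegral I (⊥ : Ideal (S ⧸ W)) (by
      intro x hx
      obtain rfl : x = 0 :=
        Ideal.quotientMap_injective (f := algebraMap B S) (I := W) (by rw [map_zero]; exact Ideal.mem_bot.1 hx)
      exact I.zero_mem)
    haveI := hQ
    have hQ0 : Q ≠ ⊥ := by
      rintro rfl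
      exact hI (hQI ▸ Ideal.comap_bot_of_injective _ Ideal.quotientMap_injective)
    haveI : Q.IsMaximal := Ideal.IsPrime.isMaximal hQ hQ0
    exact hQI ▸ Ideal.isMaximal_comap_of_isIntegral_of_isMaximal Q

end Groth.Agent.GRing6
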