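import Groth.Agent.Lib.GRing6.FProp
import Mathlib

/-! # Completions along ideals and power series: the general property -/

set_option autoImplicit false
set_option linter.style.haveILetI false
universe u

open IsLocalRing TensorProduct

namespace Groth.Agent.GRing6

noncomputable local instance (priority := high) cplAlgebra3 (A : Type u) [CommRing A] [IsLocalRing A] :
    Algebra A (EGA4.Cpl A) :=
  AdicCompletion.instAlgebra _

/-- Geometric reducedness of fibres can be tested at the maximal ideals of the target. -/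
theorem reducedProp_local (A B : Type u) [CommRing A] [CommRing B] [Algebra A B] [IsNoetherianRing B] [Module.Flat A B]
    (h : ∀ (n : Ideal B) [n.IsMaximal], reducedProp.P A (Localization.AtPrime n)) : reducedProp.P A B := by
  refine ⟨inferInstance, fun p _ => ?_⟩
  rw [Algebra.isGeometricallyReduced_field_iff]
  let K := AlgebraicClosure p.ResidueField
  let e0 : (K ⊗[p.ResidueField] p.Fiber B) ≃+* (B ⊗[A] K) :=
    (Algebra.TensorProduct.cancelBaseChange A p.ResidueField p.ResidueField K B).toRingEquiv.trans
      (Algebra.TensorProduct.comm A K B).toRingEquiv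
  suffices IsReduced (B ⊗[A] K) from isReduced_of_injective e0.toRingHom e0.injective
  constructor
  intro x hx
  by_contra hx0
  let J : Ideal B := LinearMap.ker (LinearMap.toSpanSingleton B (B ⊗[A] K) x)
  obtain ⟨n, hn, hJ⟩ := Ideal.exists_le_maximal J fun h1 => hx0 (by
    have : (1 : B) ∈ J := h1 ▸ Submodule.mem_top
    simpa [J] using this)
  let D' := (B ⊗[A] K) ⊗[B] Localization.AtPrime n
  haveI hD' : IsReduced D' := by
    haveI := (h n).2 p
    haveI : IsReduced (K ⊗[p.ResidueField] p.Fiber (Localization.AtPrime n)) := inferInstance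
    let e : D' ≃+* (K ⊗[p.ResidueField] p.Fiber (Localization.AtPrime n)) :=
      (((Algebra.TensorProduct.cancelBaseChange A p.ResidueField p.ResidueField K (Localization.AtPrime n)).toRingEquiv.trans
        (Algebra.TensorProduct.comm A K (Localization.AtPrime n)).toRingEquiv).trans
        ((Algebra.TensorProduct.cancelBaseChange A B B (Localization.AtPrime n) K).symm.toRingEquiv.trans
          (Algebra.TensorProduct.comm B (Localization.AtPrime n) (B ⊗[A] K)).toRingEquiv)).symm
    exact isReduced_of_injective e e.injective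
  haveI : IsLocalization (Algebra.algebraMapSubmonoid (B ⊗[A] K) n.primeCompl) D' := by infer_instance
  obtain ⟨⟨_, s, hs, rfl⟩, hsx⟩ := (IsLocalization.map_eq_zero_iff
    (Algebra.algebraMapSubmonoid (B ⊗[A] K) n.primeCompl) D' x).1 ((hx.map (algebraMap (B ⊗[A] K) D')).eq_zero)
  refine hs (hJ ?_)
  show s • x = 0
  rw [Algebra.smul_def]
  exact hsx

/-- Geometric normality of fibres can be tested at the maximal ideals of the target. -/
theorem normalProp_local (A B : Type u) [CommRing A] [CommRing B] [Algebra A B] [IsNoetherianRing B] [Module.Flat A B]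
    (h : ∀ (n : Ideal B) [n.IsMaximal], normalProp.P A (Localization.AtPrime n)) : normalProp.P A B := by
  refine ⟨inferInstance, fun p _ K _ _ hK => ?_⟩
  letI : Algebra A K := ((algebraMap p.ResidueField K).comp (algebraMap A p.ResidueField)).toAlgebra
  haveI : IsScalarTower A p.ResidueField K := .of_algebraMap_eq fun _ => rfl
  let e0 : (K ⊗[p.ResidueField] p.Fiber B) ≃+* (B ⊗[A] K) :=
    (Algebra.TensorProduct.cancelBaseChange A p.ResidueField p.ResidueField K B).toRingEquiv.trans
      (Algebra.TensorProduct.comm A K B).toRingEquiv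
  suffices EGA4.IsNormalRing (B ⊗[A] K) from FlatDepth.isNormalRing_of_ringEquiv e0.symm this
  intro P _
  obtain ⟨n, hn, hle⟩ := Ideal.exists_le_maximal (P.comap (algebraMap B (B ⊗[A] K))) (Ideal.IsPrime.ne_top inferInstance)
  let D' := (B ⊗[A] K) ⊗[B] Localization.AtPrime n
  have hD' : EGA4.IsNormalRing D' :=
    FlatDepth.isNormalRing_of_ringEquiv
      (((Algebra.TensorProduct.cancelBaseChange A p.ResidueField p.ResidueField K (Localization.AtPrime n)).toRingEquiv.trans
        (Algebra.TensorProduct.comm A K (Localization.AtPrime n)).toRingEquiv).trans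
        ((Algebra.TensorProduct.cancelBaseChange A B B (Localization.AtPrime n) K).symm.toRingEquiv.trans
          (Algebra.TensorProduct.comm B (Localization.AtPrime n) (B ⊗[A] K)).toRingEquiv)) ((h n).2 p K hK)
  haveI : IsLocalization (Algebra.algebraMapSubmonoid (B ⊗[A] K) n.primeCompl) D' := by infer_instance
  have hdisj : Disjoint (Algebra.algebraMapSubmonoid (B ⊗[A] K) n.primeCompl : Set (B ⊗[A] K)) (P : Set (B ⊗[A] K)) :=
    Set.disjoint_left.2 fun _ ⟨s, hs, hsx⟩ hP => hs (hle (hsx ▸ hP : algebraMap B (B ⊗[A] K) s ∈ P))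
  let P' := P.map (algebraMap (B ⊗[A] K) D')
  haveI : P'.IsPrime := IsLocalization.isPrime_of_isPrime_disjoint _ D' P ‹_› hdisj
  have hc : P'.comap (algebraMap (B ⊗[A] K) D') = P := IsLocalization.under_map_of_isPrime_disjoint _ D' ‹_› hdisj
  haveI : IsLocalization.AtPrime (Localization.AtPrime P') P := by
    have h1 := IsLocalization.isLocalization_isLocalization_atPrime_isLocalization
      (Algebra.algebraMapSubmonoid (B ⊗[A] K) n.primeCompl) (Localization.AtPrime P') P'
    simpa only [hc] using h1
  let e : Localization.AtPrime P' ≃+* Localization.AtPrime P :=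
    (IsLocalization.algEquiv P.primeCompl _ _).toRingEquiv
  obtain ⟨h1, h2⟩ := hD' P'
  haveI : IsDomain (Localization.AtPrime P) := MulEquiv.isDomain _ e.symm.toMulEquiv
  exact ⟨inferInstance, IsIntegrallyClosed.of_equiv (R := Localization.AtPrime P') e⟩

/-- The completion along an ideal has the property, if the local rings' completions have it. -/
theorem FProp.hom_adicCompletion (Φ : FProp.{u})
    (hloc : ∀ (A B : Type u) [CommRing A] [CommRing B] [Algebra A B] [IsNoetherianRing B] [Module.Flat A B],
      (∀ (n : Ideal B) [n.IsMaximal], Φ.P A (Localization.AtPrime n)) → Φ.P A B)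
    (A : Type u) [CommRing A] [IsNoetherianRing A] (hA : Φ.GAll A) (I : Ideal A) :
    Φ.P A (AdicCompletion I A) := by
  have hI : I.FG := IsNoetherian.noetherian I
  let B := AdicCompletion I A
  haveI : IsNoetherianRing B := Compl.isNoetherianRing_adicCompletion I hI
  haveI : Module.Flat A B := AdicCompletion.flat_of_isNoetherian I
  haveI := AdicCompletion.isAdicComplete_self I hI
  refine hloc A B fun n _ => ?_
  have hIn : I.map (algebraMap A B) ≤ n :=
    (IsAdicComplete.le_jacobson_bot (I.map (algebraMap A B))).trans (sInf_le ⟨bot_le, inferInstance⟩)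
  have happrox : ∀ c : B, ∃ a : A, c - algebraMap A B a ∈ I.map (algebraMap A B) := fun c => by
    obtain ⟨a, ha⟩ := Ideal.Quotient.mk_surjective (AdicCompletion.evalOneₐ I c)
    refine ⟨a, ?_⟩
    rw [← AdicCompletion.ker_evalOneₐ_eq_map I hI, RingHom.mem_ker]
    show AdicCompletion.evalOneₐ I (c - algebraMap A B a) = 0
    rw [map_sub, AlgHom.commutes, Ideal.Quotient.algebraMap_eq, ← ha, sub_self]
  let m := n.comap (algebraMap A B)
  haveI : m.IsMaximal := by
    refine Ideal.Quotient.maximal_of_isField _ (MulEquiv.isField (B := B ⧸ n) ((Ideal.Quotient.maximal_ideal_iff_isField_quotient n).1 ‹_›) ?_)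
    refine (RingEquiv.ofBijective (Ideal.quotientMap n (algebraMap A B) le_rfl) ⟨Ideal.quotientMap_injective, fun y => ?_⟩).toMulEquiv
    obtain ⟨c, rfl⟩ := Ideal.Quotient.mk_surjective y
    obtain ⟨a, ha⟩ := happrox c
    refine ⟨Ideal.Quotient.mk _ a, ?_⟩
    rw [Ideal.quotientMap_mk]
    exact ((Ideal.Quotient.eq).2 (hIn ha)).symm
  have hmn : m.map (algebraMap A B) = n := by
    refine le_antisymm Ideal.map_comap_le fun c hc => ?_
    obtain ⟨a, ha⟩ := happrox c
    have hIm : I ≤ m := Ideal.map_le_iff_le_comap.1 hIn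
    have ham : a ∈ m := by
      show algebraMap A B a ∈ n
      have := n.sub_mem hc (hIn ha)
      rwa [sub_sub_cancel] at this
    simpa using (m.map (algebraMap A B)).add_mem (Ideal.mem_map_of_mem _ ham) (Ideal.map_mono hIm ha)
  haveI : n.LiesOver m := ⟨rfl⟩
  letI := Localization.AtPrime.algebraOfLiesOver m n
  let R := Localization.AtPrime m
  let S := Localization.AtPrime n
  haveI : IsLocalHom (algebraMap R S) := Localization.isLocalHom_localRingHom m n (algebraMap A B) rfl
  haveI : Module.Flat A S := Module.Flat.trans A B S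
  haveI : Module.Flat R S := (Module.flat_iff_of_isLocalization R m.primeCompl S).2 inferInstance
  have hm : (maximalIdeal R).map (algebraMap R S) = maximalIdeal S := by
    rw [← Localization.AtPrime.map_eq_maximalIdeal, Ideal.map_map, ← IsScalarTower.algebraMap_eq,
      IsScalarTower.algebraMap_eq A B S, ← Ideal.map_map, hmn, Localization.AtPrime.map_eq_maximalIdeal]
  have hres : ∀ b : S, ∃ c : Unit → R, b - ∑ i, c i • (1 : S) ∈ maximalIdeal S := fun b => by
    obtain ⟨x, s, rfl⟩ := IsLocalization.exists_mk'_eq n.primeCompl b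
    obtain ⟨y, z, hz, hy⟩ := (Ideal.IsMaximal.exists_inv ‹n.IsMaximal› s.2)
    obtain ⟨a, ha⟩ := happrox (x * y)
    refine ⟨fun _ => algebraMap A R a, ?_⟩
    rw [Fintype.sum_unique, algebraMap_smul, ← Algebra.algebraMap_eq_smul_one, IsScalarTower.algebraMap_apply A B S,
      ← Ideal.unit_mul_mem_iff_mem _ (IsLocalization.map_units S s), mul_sub, IsLocalization.mk'_spec', ← map_mul,
      ← map_sub, IsLocalization.AtPrime.to_map_mem_maximal_iff S n]
    have : x - (s : B) * algebraMap A B a = x * z + (s : B) * (x * y - algebraMap A B a) := by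
      linear_combination (x * (-1 : B)) * hy
    rw [this]
    exact n.add_mem (n.mul_mem_left _ hz) (n.mul_mem_left _ (hIn ha))
  obtain ⟨_, _, hff⟩ := FlatDepth.exists_cpl_tower R S
  have hsurj : Function.Surjective (algebraMap (EGA4.Cpl R) (EGA4.Cpl S)) := fun y => by
    obtain ⟨c, hc⟩ := CplLocH7.surjective_linearCombination (A := R) hm (fun _ : Unit => (1 : S)) hres y
    refine ⟨c (), ?_⟩
    rw [← hc, Fintype.linearCombination_apply, Fintype.sum_unique, map_one, ← Algebra.algebraMap_eq_smul_one]
  haveI : Module.FaithfullyFlat (EGA4.Cpl R) (EGA4.Cpl S) := hff inferInstance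
  have hinj : Function.Injective (algebraMap (EGA4.Cpl R) (EGA4.Cpl S)) := by
    rw [RingHom.injective_iff_ker_eq_bot, RingHom.ker_eq_comap_bot]
    conv_lhs => rw [← Ideal.map_bot (f := algebraMap (EGA4.Cpl R) (EGA4.Cpl S))]
    exact Ideal.comap_map_eq_self_of_faithfullyFlat ⊥
  haveI : IsScalarTower A (EGA4.Cpl R) (EGA4.Cpl S) := IsScalarTower.of_algebraMap_eq fun x => by
    rw [IsScalarTower.algebraMap_apply A R (EGA4.Cpl R), ← IsScalarTower.algebraMap_apply R (EGA4.Cpl R) (EGA4.Cpl S),
      IsScalarTower.algebraMap_apply R S (EGA4.Cpl S), ← IsScalarTower.algebraMap_apply A R S,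
      ← IsScalarTower.algebraMap_apply A S (EGA4.Cpl S)]
  have hc : Φ.P A (EGA4.Cpl S) :=
    Φ.comp A (EGA4.Cpl R) (EGA4.Cpl S) (Φ.hom_cpl_atPrime A m (hA m))
      (Φ.of_regular _ _ (GRing12.isRegularHom_of_bijective _ _ ⟨hinj, hsurj⟩))
  haveI := CplLocH7.faithfullyFlat_cpl S
  exact Φ.of_comp A S (EGA4.Cpl S) hc

/-- Power series. -/
theorem FProp.hom_mvPowerSeries (Φ : FProp.{u})
    (hloc : ∀ (A B : Type u) [CommRing A] [CommRing B] [Algebra A B] [IsNoetherianRing B] [Module.Flat A B],
      (∀ (n : Ideal B) [n.IsMaximal], Φ.P A (Localization.AtPrime n)) → Φ.P A B)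
    (A : Type u) [CommRing A] [IsNoetherianRing A] (hA : Φ.GAll A) (r : ℕ) :
    Φ.P A (MvPowerSeries (Fin r) A) := by
  let P := MvPolynomial (Fin r) A
  let V := MvPolynomial.idealOfVars (Fin r) A
  haveI : IsNoetherianRing (AdicCompletion V P) :=
    Compl.isNoetherianRing_adicCompletion V (MvPolynomial.idealOfVars_fg _ _)
  let e := MvPowerSeries.toAdicCompletionAlgEquiv (Fin r) A
  haveI : IsNoetherianRing (MvPowerSeries (Fin r) A) := isNoetherianRing_of_ringEquiv _ e.symm.toRingEquiv
  have h1 : Φ.P A (AdicCompletion V P) :=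
    Φ.comp A P _ (Φ.of_regular _ _ (isRegularHom_mvPolynomial A r))
      (Φ.hom_adicCompletion hloc P (Φ.gAll_mvPolynomial A hA r) V)
  letI : Algebra (AdicCompletion V P) (MvPowerSeries (Fin r) A) := e.symm.toRingEquiv.toRingHom.toAlgebra
  haveI : IsScalarTower A (AdicCompletion V P) (MvPowerSeries (Fin r) A) := .of_algebraMap_eq fun a => by
    show _ = e.symm (algebraMap A (AdicCompletion V P) a)
    rw [IsScalarTower.algebraMap_apply A P (AdicCompletion V P), AlgEquiv.commutes, ← IsScalarTower.algebraMap_apply]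
  exact Φ.comp A (AdicCompletion V P) _ h1
    (Φ.of_regular _ _ (GRing12.isRegularHom_of_bijective _ _ e.symm.toRingEquiv.bijective))

end Groth.Agent.GRing6
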