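import Groth.Agent.Lib.CAlgLow.N1Loc
import Mathlib

/-! # Finiteness from finiteness at maximal ideals and away from one element -/

set_option autoImplicit false
set_option linter.style.haveILetI false
universe u

namespace Groth.Agent.GRing6

/-- A torsion-free module which is finite away from `f` and at all maximal ideals is finite. -/
theorem finite_of_local_of_away {A M : Type u} [CommRing A] [IsNoetherianRing A] [AddCommGroup M] [Module A M]
    (f : A) (hf : IsSMulRegular M f) (N₀ : Submodule A M) (h₀ : N₀.FG) (haway : ∀ x : M, ∃ n : ℕ, f ^ n • x ∈ N₀)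
    (hloc : ∀ (m : Ideal A) [m.IsMaximal], ∃ N : Submodule A M, N.FG ∧ ∀ x : M, ∃ s : A, s ∉ m ∧ s • x ∈ N) :
    Module.Finite A M := by
  classical
  have key : ∀ (m : Ideal A) [m.IsMaximal], ∃ (g : A) (N : Submodule A M),
      g ∉ m ∧ N.FG ∧ ∀ x : M, g ∈ (N.colon {x}).radical := by
    intro m hm
    obtain ⟨N', hN', hN'x⟩ := hloc m
    let N := N' ⊔ N₀
    have hN : N.FG := hN'.sup h₀
    haveI : Module.Finite A N := Module.Finite.iff_fg.2 hN
    let Q := N ⧸ LinearMap.range (LinearMap.lsmul A N f)
    have hT : {q | q ∈ associatedPrimes A Q ∧ ¬ q ≤ m}.Finite := (associatedPrimes.finite A Q).subset fun _ h => h.1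
    have hex : ∀ q : Ideal A, ¬ q ≤ m → ∃ a, a ∈ q ∧ a ∉ m := fun q h => SetLike.not_le_iff_exists.1 h
    let g : A := ∏ q ∈ hT.toFinset.attach, (hex q.1 (hT.mem_toFinset.1 q.2).2).choose
    refine ⟨g, N, fun hg => ?_, hN, fun x => ?_⟩
    · obtain ⟨q, -, hq⟩ := hm.isPrime.prod_mem_iff.1 hg
      exact (hex q.1 (hT.mem_toFinset.1 q.2).2).choose_spec.2 hq
    · rw [← Ideal.sInf_minimalPrimes, Ideal.mem_sInf]
      intro q hq
      haveI := hq.1.1
      have hq' : q ∈ associatedPrimes A (A ⧸ N.colon {x}) :=
        Module.associatedPrimes.minimalPrimes_annihilator_subset_associatedPrimes A _ (by rwa [Ideal.annihilator_quotient])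
      obtain ⟨-, y, hy⟩ := isAssociatedPrime_iff.1 hq'
      obtain ⟨a, rfl⟩ := Ideal.Quotient.mk_surjective y
      have hz : ∀ r : A, r ∈ q ↔ r • (a • x) ∈ N := fun r => by
        rw [hy, Submodule.mem_colon_singleton, Submodule.mem_bot, Algebra.smul_def, Ideal.Quotient.algebraMap_eq,
          ← map_mul, Ideal.Quotient.eq_zero_iff_mem, Submodule.mem_colon_singleton, mul_smul]
      have hfq : f ∈ q := by
        obtain ⟨n, hn⟩ := haway (a • x)
        exact Ideal.IsPrime.mem_of_pow_mem inferInstance n ((hz _).2 (le_sup_right (a := N') hn))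
      have hass : q ∈ associatedPrimes A Q := by
        refine isAssociatedPrime_iff.2 ⟨inferInstance, Submodule.Quotient.mk ⟨f • a • x, (hz f).1 hfq⟩, ?_⟩
        ext r
        rw [hz, Submodule.mem_colon_singleton, Submodule.mem_bot, ← Submodule.Quotient.mk_smul,
          Submodule.Quotient.mk_eq_zero, LinearMap.mem_range]
        constructor
        · intro h
          exact ⟨⟨r • a • x, h⟩, Subtype.ext (smul_comm f r (a • x))⟩
        · rintro ⟨v, hv⟩
          have hv' : f • (v : M) = r • f • a • x := congrArg Subtype.val hv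
          rw [smul_comm r f] at hv'
          exact hf hv' ▸ v.2
      have hqm : ¬ q ≤ m := fun hle => by
        obtain ⟨s, hs, hsx⟩ := hN'x (a • x)
        exact hs (hle ((hz s).2 (le_sup_left (b := N₀) hsx)))
      exact Ideal.prod_mem q (Finset.mem_attach _ ⟨q, hT.mem_toFinset.2 ⟨hass, hqm⟩⟩)
        (hex q hqm).choose_spec.1
  choose g N hg hN hx using fun m : MaximalSpectrum A => @key m.asIdeal m.isMaximal
  have htop : Ideal.span (Set.range g) = ⊤ := by
    by_contra h
    obtain ⟨m, hm, hle⟩ := Ideal.exists_le_maximal _ h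
    exact hg ⟨m, hm⟩ (hle (Ideal.subset_span ⟨⟨m, hm⟩, rfl⟩))
  obtain ⟨T, hTsub, hT⟩ := (Ideal.span_eq_top_iff_finite _).1 htop
  choose μ hμ using fun t : T => hTsub t.2
  let Ntot : Submodule A M := T.attach.sup fun t => N (μ t)
  have hfg : Ntot.FG := Submodule.fg_finset_sup _ _ fun t _ => hN _
  refine Module.finite_def.2 ?_
  convert hfg
  refine (eq_top_iff.2 fun x _ => ?_).symm
  have : (Ntot.colon {x}).radical = ⊤ := by
    rw [eq_top_iff, ← hT, Ideal.span_le]
    intro t ht
    have h1 : N (μ ⟨t, ht⟩) ≤ Ntot := Finset.le_sup (f := fun t => N (μ t)) (Finset.mem_attach _ ⟨t, ht⟩)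
    obtain ⟨k, hk⟩ := hx (μ ⟨t, ht⟩) x
    refine ⟨k, Submodule.mem_colon_singleton.2 (h1 ?_)⟩
    rw [hμ ⟨t, ht⟩] at hk
    exact Submodule.mem_colon_singleton.1 hk
  have h1 : (1 : A) ∈ Ntot.colon {x} := by rw [Ideal.radical_eq_top.1 this]; exact Submodule.mem_top
  simpa using Submodule.mem_colon_singleton.1 h1

/-- Finiteness after localization gives a finitely generated submodule which is everything after localization. -/
theorem exists_fg_of_localized {A M M' : Type u} [CommRing A] [AddCommGroup M] [Module A M] [AddCommGroup M']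
    [Module A M'] (S : Submonoid A) (R' : Type u) [CommRing R'] [Algebra A R'] [IsLocalization S R']
    [Module R' M'] [IsScalarTower A R' M'] [Module.Finite R' M'] (g : M →ₗ[A] M')
    (hsurj : ∀ z : M', ∃ s ∈ S, ∃ y : M, g y = s • z)
    (heq : ∀ a b : M, g a = g b → ∃ s ∈ S, s • a = s • b) :
    ∃ N : Submodule A M, N.FG ∧ ∀ x : M, ∃ s ∈ S, s • x ∈ N := by
  classical
  obtain ⟨G, hG⟩ := Module.Finite.fg_top (R := R') (M := M')
  choose s hs y hy using hsurj
  refine ⟨Submodule.span A ((G.image y : Finset M) : Set M), ⟨_, rfl⟩, fun x => ?_⟩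
  have key : ∀ z : M', z ∈ Submodule.span R' (G : Set M') →
      ∃ t ∈ S, ∃ w ∈ Submodule.span A ((G.image y : Finset M) : Set M), g w = t • z := by
    intro z hz
    induction hz using Submodule.span_induction with
    | mem z hz => exact ⟨s z, hs z, y z, Submodule.subset_span (Finset.mem_image_of_mem y hz), hy z⟩
    | zero => exact ⟨1, one_mem _, 0, zero_mem _, by simp⟩
    | add a b _ _ ha hb =>
      obtain ⟨t, ht, w, hw, e⟩ := ha
      obtain ⟨t', ht', w', hw', e'⟩ := hb
      refine ⟨t * t', mul_mem ht ht', t' • w + t • w', add_mem (Submodule.smul_mem _ _ hw) (Submodule.smul_mem _ _ hw'), ?_⟩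
      rw [map_add, map_smul, map_smul, e, e', smul_add, mul_smul, mul_smul, smul_comm t' t a]
    | smul c a _ ha =>
      obtain ⟨t, ht, w, hw, e⟩ := ha
      obtain ⟨⟨r, u⟩, hu⟩ := IsLocalization.surj S c
      refine ⟨(u : A) * t, mul_mem u.2 ht, r • w, Submodule.smul_mem _ _ hw, ?_⟩
      rw [map_smul, e, mul_smul, ← algebraMap_smul R' r, ← hu, smul_comm t c a, ← algebraMap_smul R' (u : A) (c • t • a),
        smul_smul (algebraMap A R' u) c, mul_comm c]
  obtain ⟨t, ht, w, hw, e⟩ := key (g x) (hG ▸ Submodule.mem_top)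
  obtain ⟨u, hu, hux⟩ := heq w (t • x) (by rw [e, map_smul])
  exact ⟨u * t, mul_mem hu ht, by rw [mul_smul, ← hux]; exact Submodule.smul_mem _ _ hw⟩

/-- The integral closure version. -/
theorem finite_integralClosure_of_local_of_away {A L : Type u} [CommRing A] [IsNoetherianRing A] [Field L] [Algebra A L]
    (f : A) (hf : algebraMap A L f ≠ 0) (N₀ : Submodule A (integralClosure A L)) (h₀ : N₀.FG)
    (haway : ∀ x : integralClosure A L, ∃ n : ℕ, f ^ n • x ∈ N₀)
    (hloc : ∀ (m : Ideal A) [m.IsMaximal], ∃ N : Submodule A (integralClosure A L), N.FG ∧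
      ∀ x : integralClosure A L, ∃ s : A, s ∉ m ∧ s • x ∈ N) :
    Module.Finite A (integralClosure A L) := by
  refine finite_of_local_of_away f (fun x y h => Subtype.ext ?_) N₀ h₀ haway hloc
  have h' : f • (x : L) = f • (y : L) := congrArg Subtype.val h
  rwa [Algebra.smul_def, Algebra.smul_def, mul_right_inj' hf] at h'

/-- Finiteness of the integral closure of a localization gives a finitely generated approximation. -/
theorem exists_fg_integralClosure {A L : Type u} [CommRing A] [Field L] [Algebra A L] (S : Submonoid A)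
    (R' : Type u) [CommRing R'] [Algebra A R'] [IsLocalization S R'] [Algebra R' L] [IsScalarTower A R' L]
    (h : Module.Finite R' (integralClosure R' L)) :
    ∃ N : Submodule A (integralClosure A L), N.FG ∧ ∀ x : integralClosure A L, ∃ s ∈ S, s • x ∈ N := by
  let g : integralClosure A L →ₗ[A] integralClosure R' L :=
    { toFun := fun x => ⟨x.1, x.2.tower_top⟩
      map_add' := fun _ _ => rfl
      map_smul' := fun _ _ => rfl }
  refine exists_fg_of_localized S R' g (fun z => ?_) fun a b e => ⟨1, one_mem _, ?_⟩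
  · obtain ⟨t, ht⟩ := IsIntegral.exists_multiple_integral_of_isLocalization S (Rₘ := R') (z : L) z.2
    exact ⟨t, t.2, ⟨(t : A) • (z : L), ht⟩, rfl⟩
  · rw [one_smul, one_smul]; exact Subtype.ext (congrArg Subtype.val e :)

/-- The integral closure in the fraction field of `R` from that of an N-1 localization. -/
theorem exists_fg_of_isN1 {R : Type u} [CommRing R] [IsDomain R] (S : Submonoid R) (R' : Type u) [CommRing R']
    [IsDomain R'] [Algebra R R'] [IsLocalization S R'] (h : CAlg.IsN1 R') :
    ∃ N : Submodule R (integralClosure R (FractionRing R)), N.FG ∧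
      ∀ x : integralClosure R (FractionRing R), ∃ s ∈ S, s • x ∈ N := by
  obtain ⟨_, _, _⟩ := CAlgLow.exists_lift_fractionRing (S := R') S
  haveI : Module.Finite R' (integralClosure R' (FractionRing R')) := h
  exact exists_fg_integralClosure S R'
    (Module.Finite.equiv (FractionRing.algEquiv R' (FractionRing R)).mapIntegralClosure.toLinearEquiv)

/-- A domain which is normal away from `f` and N-1 at every maximal ideal is N-1. -/
theorem isN1_of_away_of_local (R : Type u) [CommRing R] [IsDomain R] [IsNoetherianRing R] (f : R) (hf : f ≠ 0)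
    (hn : IsIntegrallyClosed (Localization.Away f))
    (hloc : ∀ (m : Ideal R) [m.IsMaximal], CAlg.IsN1 (Localization.AtPrime m)) : CAlg.IsN1 R := by
  haveI : IsDomain (Localization.Away f) :=
    IsLocalization.isDomain_localization (powers_le_nonZeroDivisors_of_noZeroDivisors hf)
  refine finite_integralClosure_of_local_of_away (L := FractionRing R) f
    ((map_ne_zero_iff _ (IsFractionRing.injective R (FractionRing R))).2 hf) (Submodule.span R {1}) ⟨{1}, by simp⟩ ?_ ?_
  · intro x
    obtain ⟨_, _, _⟩ := CAlgLow.exists_lift_fractionRing (R := R) (S := Localization.Away f) (Submonoid.powers f)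
    obtain ⟨y, hy⟩ := IsIntegrallyClosed.isIntegral_iff.1 (x.2.tower_top : IsIntegral (Localization.Away f) (x : FractionRing R))
    obtain ⟨⟨a, _, n, rfl⟩, ha⟩ := IsLocalization.surj (Submonoid.powers f) y
    refine ⟨n, Submodule.mem_span_singleton.2 ⟨a, Subtype.ext ?_⟩⟩
    show a • (1 : FractionRing R) = f ^ n • (x : FractionRing R)
    rw [← Algebra.algebraMap_eq_smul_one, Algebra.smul_def, IsScalarTower.algebraMap_apply R (Localization.Away f) (FractionRing R),
      IsScalarTower.algebraMap_apply R (Localization.Away f) (FractionRing R) (f ^ n), ← hy, ← ha, map_mul, mul_comm]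
  · intro m _
    obtain ⟨N, hN, hx⟩ := exists_fg_of_isN1 m.primeCompl (Localization.AtPrime m) (hloc m)
    exact ⟨N, hN, fun x => hx x⟩

end Groth.Agent.GRing6

namespace Groth.Agent.GRing6

/-- Finiteness of an integral closure from finiteness of its localizations. -/
theorem finite_integralClosure_of_localizations (A K' : Type u) [CommRing A] [IsNoetherianRing A] [Field K'] [Algebra A K']
    (f : A) (hf : algebraMap A K' f ≠ 0)
    (haway : Module.Finite (Localization.Away f) (LocalizedModule (Submonoid.powers f) (integralClosure A K')))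
    (hloc : ∀ (p : Ideal A) [p.IsPrime], Module.Finite (Localization.AtPrime p) (LocalizedModule p.primeCompl (integralClosure A K'))) :
    Module.Finite A (integralClosure A K') := by
  have key : ∀ (S : Submonoid A), Module.Finite (Localization S) (LocalizedModule S (integralClosure A K')) →
      ∃ N : Submodule A (integralClosure A K'), N.FG ∧ ∀ x : integralClosure A K', ∃ s ∈ S, s • x ∈ N := fun S hS => by
    refine exists_fg_of_localized S (Localization S) (LocalizedModule.mkLinearMap S (integralClosure A K')) (fun z => ?_) fun a b e => ?_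
    · induction z using LocalizedModule.induction_on with
      | _ m s =>
        refine ⟨s, s.2, m, ?_⟩
        rw [LocalizedModule.mkLinearMap_apply, LocalizedModule.smul'_mk, ← Submonoid.smul_def, LocalizedModule.mk_cancel]
    · obtain ⟨c, hc⟩ := (IsLocalizedModule.eq_iff_exists S (LocalizedModule.mkLinearMap S (integralClosure A K'))).1 e
      exact ⟨c, c.2, hc⟩
  obtain ⟨N₀, h₀, h₀x⟩ := key _ haway
  refine finite_integralClosure_of_local_of_away f hf N₀ h₀ (fun x => ?_) fun m _ => ?_
  · obtain ⟨_, ⟨n, rfl⟩, hn⟩ := h₀x x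
    exact ⟨n, hn⟩
  · obtain ⟨N, hN, hx⟩ := key m.primeCompl (hloc m)
    exact ⟨N, hN, fun x => hx x⟩

end Groth.Agent.GRing6
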