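import Groth.Agent.Lib.GRing6.Excellent
import Groth.Agent.Lib.FlatDepth.RingFib
import Groth.Agent.Lib.CplDomain.J2
import Mathlib

/-! # The regular locus along regular homomorphisms -/

set_option autoImplicit false
set_option linter.style.haveILetI false
universe u

open IsLocalRing TensorProduct

namespace Groth.Agent.GRing6

theorem regular_fibre_of_isRegularHom (A B : Type u) [CommRing A] [CommRing B] [Algebra A B]
    (h : CAlg.IsRegularHom A B) (p : Ideal A) [p.IsPrime] : IsRegularRing (p.Fiber B) := by
  haveI := (h.2 p).2 p.ResidueField inferInstance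
  exact IsRegularRing.of_ringEquiv (R := p.ResidueField ⊗[p.ResidueField] p.Fiber B) (Algebra.TensorProduct.lid p.ResidueField (p.Fiber B)).toRingEquiv

/-- Along a regular homomorphism, the regular locus is the preimage of the regular locus. -/
theorem regLocus_eq_preimage (A B : Type u) [CommRing A] [CommRing B] [Algebra A B] [IsNoetherianRing A]
    [IsNoetherianRing B] (h : CAlg.IsRegularHom A B) :
    EGA4.regLocus B = PrimeSpectrum.comap (algebraMap A B) ⁻¹' EGA4.regLocus A := by
  haveI := h.1
  ext ⟨q, hq⟩
  constructor
  · intro hB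
    let p := q.comap (algebraMap A B)
    haveI : q.LiesOver p := ⟨rfl⟩
    letI := Localization.AtPrime.algebraOfLiesOver p q
    haveI : IsLocalHom (algebraMap (Localization.AtPrime p) (Localization.AtPrime q)) :=
      Localization.isLocalHom_localRingHom p q (algebraMap A B) rfl
    haveI : Module.Flat A (Localization.AtPrime q) := Module.Flat.trans A B _
    haveI : Module.Flat (Localization.AtPrime p) (Localization.AtPrime q) :=
      (Module.flat_iff_of_isLocalization (Localization.AtPrime p) p.primeCompl _).2 inferInstance
    haveI : IsRegularLocalRing (Localization.AtPrime q) := hB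
    exact RegLoc.isRegularLocalRing_of_flat (Localization.AtPrime p) (Localization.AtPrime q)
  · intro hA
    haveI : IsRegularLocalRing (Localization.AtPrime (q.comap (algebraMap A B))) := hA
    obtain ⟨p, _, Q, _, ⟨e⟩⟩ := FlatDepth.exists_fibLoc_equiv (A := A) q
    haveI := regular_fibre_of_isRegularHom A B h p
    haveI : IsRegularLocalRing (EGA4.FibLocRing A B q) :=
      IsRegularLocalRing.of_ringEquiv (R := Localization.AtPrime Q) e
    exact FlatDepth.regular_of_fibre (A := A) q

/-- A Noetherian local ring with geometrically regular formal fibres has open regular locus. -/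
theorem isOpen_regLocus_of_isRegularHom_cpl (A : Type u) [CommRing A] [IsLocalRing A] [IsNoetherianRing A]
    (h : CAlg.IsRegularHom A (EGA4.Cpl A)) : IsOpen (EGA4.regLocus A) := by
  haveI : IsAdicComplete (maximalIdeal (EGA4.Cpl A)) (EGA4.Cpl A) := by
    rw [CplLocH7.maximalIdeal_cpl]
    exact (IsAdicComplete.map_algebraMap_iff _ _).2 (AdicCompletion.isAdicComplete (IsNoetherian.noetherian _))
  have hJ : EGA4.IsJ2 (EGA4.Cpl A) := CplDomain.isJ2_of_complete _
  have hop : IsOpen (EGA4.regLocus (EGA4.Cpl A)) := hJ (EGA4.Cpl A) inferInstance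
  haveI := CplLocH7.faithfullyFlat_cpl A
  rw [regLocus_eq_preimage A (EGA4.Cpl A) h] at hop
  exact (PrimeSpectrum.isQuotientMap_of_generalizingMap PrimeSpectrum.comap_surjective_of_faithfullyFlat
    (RingHom.Flat.generalizingMap_comap (RingHom.flat_algebraMap_iff.2 inferInstance))).isOpen_preimage.1 hop

end Groth.Agent.GRing6
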