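import Groth.Agent.Lib.GRing6.IndEtale
import Groth.Agent.Lib.GRing6.FProp
import Groth.Agent.Lib.GRing6.RegOpen
import Groth.Agent.Lib.FlatDepth.J2Apps
import Groth.Agent.Lib.Hens.Henselization
import Groth.Agent.Lib.Hens.Noetherian
import Groth.Agent.Lib.UCat.Colimit
import Groth.Agent.S2736
import Mathlib

/-! # Henselizations and geometrically regular formal fibres -/

set_option autoImplicit false
set_option linter.style.haveILetI false
universe u

open IsLocalRing TensorProduct

namespace Groth.Agent.GRing6

noncomputable local instance (priority := high) cplAlgebra9 (A : Type u) [CommRing A] [IsLocalRing A] :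
    Algebra A (EGA4.Cpl A) :=
  AdicCompletion.instAlgebra _

/-- A flat local homomorphism inducing an isomorphism on residue fields and generating the maximal ideal
gives a bijection of completions. -/
theorem exists_cpl_bijective (R S : Type u) [CommRing R] [CommRing S] [IsLocalRing R] [IsLocalRing S]
    [IsNoetherianRing R] [IsNoetherianRing S] [Algebra R S] [IsLocalHom (algebraMap R S)] [Module.Flat R S]
    (hm : (maximalIdeal R).map (algebraMap R S) = maximalIdeal S)
    (hres : ∀ x : S, ∃ r : R, x - algebraMap R S r ∈ maximalIdeal S) :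
    ∃ (_ : Algebra (EGA4.Cpl R) (EGA4.Cpl S)) (_ : IsScalarTower R (EGA4.Cpl R) (EGA4.Cpl S)),
      Function.Bijective (algebraMap (EGA4.Cpl R) (EGA4.Cpl S)) := by
  obtain ⟨i, hT, hff⟩ := FlatDepth.exists_cpl_tower R S
  haveI := hT
  haveI : Module.FaithfullyFlat (EGA4.Cpl R) (EGA4.Cpl S) := hff inferInstance
  refine ⟨i, hT, FaithfulSMul.algebraMap_injective _ _, fun y => ?_⟩
  obtain ⟨c, hc⟩ := CplLocH7.surjective_linearCombination (A := R) hm (fun _ : Unit => (1 : S)) (fun b => by
    obtain ⟨r, hr⟩ := hres b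
    exact ⟨fun _ => r, by simpa [Algebra.smul_def] using hr⟩) y
  refine ⟨c (), ?_⟩
  rw [← hc, Fintype.linearCombination_apply, Fintype.sum_unique, map_one, ← Algebra.algebraMap_eq_smul_one]

theorem henselization_regular_formalFibres_iff (R S : Type u) [CommRing R] [IsLocalRing R] [IsNoetherianRing R]
    [CommRing S] [IsLocalRing S] [Algebra R S] [IsLocalHom (algebraMap R S)] [Hensel.IsHenselization R S] :
    CAlg.IsRegularHom S (EGA4.Cpl S) ↔ CAlg.IsRegularHom R (EGA4.Cpl R) := by
  haveI : IsNoetherianRing S := Groth.Agent.Hens.henselization_isNoetherianRing R S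
  haveI : Module.FaithfullyFlat R S := Groth.Agent.Hens.henselization_faithfullyFlat R S
  haveI : Module.FaithfullyFlat S (EGA4.Cpl S) := CplLocH7.faithfullyFlat_cpl S
  have hpi : HasPiFibres R S := fun p _ => Groth.Agent.S2736.result R S p
  constructor
  · exact fun h => Groth.Agent.S4704.result R S (isRegularHom_of_piFibres R S hpi) h
  · intro h
    obtain ⟨_, _, hb⟩ := exists_cpl_bijective R S (Groth.Agent.Hens.henselization_map_maximalIdeal R S)
      (fun x => Groth.Agent.Hens.henselization_exists_sub_mem R S x)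
    exact isRegularHom_up_piFibres R S (EGA4.Cpl S) hpi
      (FlatDepth.isRegularHom_comp R (EGA4.Cpl R) (EGA4.Cpl S) h (GRing12.isRegularHom_of_bijective _ _ hb))

/-- A local G-ring is J-2. -/
theorem isJ2_of_local_isGRing (A : Type u) [CommRing A] [IsLocalRing A] [IsNoetherianRing A]
    (h : CAlg.IsRegularHom A (EGA4.Cpl A)) : EGA4.IsJ2 A := by
  refine FlatDepth.isJ2_of_finite_domains A fun B _ _ _ hB => ?_
  haveI := hB
  haveI := CplLocH7.faithfullyFlat_cpl A
  haveI : IsNoetherianRing B := IsNoetherianRing.of_finite A B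
  haveI : IsAdicComplete (maximalIdeal (EGA4.Cpl A)) (EGA4.Cpl A) := by
    rw [CplLocH7.maximalIdeal_cpl]
    exact (IsAdicComplete.map_algebraMap_iff _ _).2 (AdicCompletion.isAdicComplete (IsNoetherian.noetherian _))
  let T := B ⊗[A] EGA4.Cpl A
  haveI : IsNoetherianRing T := FlatDepth.isNoetherianRing_baseChange A (EGA4.Cpl A) B (Or.inr inferInstance)
  have hreg : CAlg.IsRegularHom B T := FlatDepth.isRegularHom_baseChange A (EGA4.Cpl A) B h
  have hop : IsOpen (EGA4.regLocus T) := by
    letI : Algebra (EGA4.Cpl A) T := Algebra.TensorProduct.rightAlgebra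
    haveI : Algebra.FiniteType (EGA4.Cpl A) (EGA4.Cpl A ⊗[A] B) := inferInstance
    haveI : Algebra.FiniteType (EGA4.Cpl A) T :=
      Algebra.FiniteType.equiv inferInstance (Algebra.TensorProduct.commRight A (EGA4.Cpl A) B)
    exact CplDomain.isJ2_of_complete (EGA4.Cpl A) T inferInstance
  rw [regLocus_eq_preimage B T hreg] at hop
  exact ⟨_, (PrimeSpectrum.isQuotientMap_of_generalizingMap PrimeSpectrum.comap_surjective_of_faithfullyFlat
    (RingHom.Flat.generalizingMap_comap (RingHom.flat_algebraMap_iff.2 inferInstance))).isOpen_preimage.1 hop,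
    ⟨_, FlatDepth.regGood.bot B⟩, subset_rfl⟩

theorem isGRing_of_local (A : Type u) [CommRing A] [IsLocalRing A] [IsNoetherianRing A]
    (h : CAlg.IsRegularHom A (EGA4.Cpl A)) : CAlg.IsGRing A :=
  ⟨inferInstance, regularProp.gAll_of_local A h⟩

theorem henselization_isExcellent (R S : Type u) [CommRing R] [IsLocalRing R]
    [CommRing S] [IsLocalRing S] [Algebra R S] [IsLocalHom (algebraMap R S)] [Hensel.IsHenselization R S]
    (h : EGA4.IsExcellent R) : EGA4.IsExcellent S := by
  haveI := h.1
  haveI : IsNoetherianRing S := Groth.Agent.Hens.henselization_isNoetherianRing R S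
  have hR : CAlg.IsRegularHom R (EGA4.Cpl R) := regularProp.hom_cpl_of_gAll R h.2.2.1.2
  have hS := (henselization_regular_formalFibres_iff R S).2 hR
  exact ⟨inferInstance, Groth.Agent.UCat.henselization_isUniversallyCatenary R S h.2.1,
    isGRing_of_local S hS, isJ2_of_local_isGRing S hS⟩

end Groth.Agent.GRing6
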