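import Groth.Agent.Lib.GRing6.HensExc
import Groth.Agent.Lib.HensH7.PairNoetherian
import Groth.Agent.Lib.Hens.Fibre

/-! # Henselizations of pairs over G-rings are G-rings -/

set_option autoImplicit false
set_option linter.style.haveILetI false
universe u

open IsLocalRing TensorProduct

namespace Groth.Agent.GRing6

variable {R : Type u} [CommRing R] (I : Ideal R)

theorem pHs_unrStalks : Hens.UnrStalks R (Hens.PHs I) := by
  intro P hP x hx
  obtain ⟨i, y, rfl⟩ := Hens.PHs.exists_of x
  let φ : i.G →+* Hens.PHs I := (Hens.PHs.of i).toRingHom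
  have hφ : φ.comp (algebraMap R i.G) = algebraMap R (Hens.PHs I) := (Hens.PHs.of i).comp_algebraMap
  let P' : Ideal i.G := Ideal.comap φ P
  have hP' : P'.IsPrime := Ideal.comap_isPrime φ P
  obtain ⟨s, hs, h⟩ := Hens.unrStalks_of_essFiniteType R i.G P' hP' y hx
  refine ⟨Hens.PHs.of i s, hs, ?_⟩
  have h' := Ideal.mem_map_of_mem φ h
  rw [Ideal.map_map, Ideal.comap_comap, hφ] at h'
  rw [← map_mul]
  exact h'

theorem pHs_hasPiFibres [IsNoetherianRing R] : HasPiFibres R (Hens.PHs I) := by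
  intro p _
  classical
  haveI := HensH7.isNoetherianRing_pHs (I := I)
  haveI := FlatDepth.isNoetherianRing_fiber (B := Hens.PHs I) p
  haveI : IsReduced (p.Fiber (Hens.PHs I)) := Hens.isReduced_fibre (pHs_unrStalks I) p
  haveI : IsArtinianRing (p.Fiber (Hens.PHs I)) :=
    isArtinianRing_iff_isNoetherianRing_krullDimLE_zero.mpr
      ⟨inferInstance, Ring.krullDimLE_zero_iff.mpr fun Q _ => Hens.isMaximal_fibre (pHs_unrStalks I) p Q⟩
  let en := Finite.equivFin (MaximalSpectrum (p.Fiber (Hens.PHs I)))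
  refine ⟨_, fun i => p.Fiber (Hens.PHs I) ⧸ (en.symm i).asIdeal,
    fun i => @Ideal.Quotient.field _ _ _ (en.symm i).isMaximal, fun i => inferInstance,
    fun i => ?_, ⟨?_⟩⟩
  · have := (en.symm i).isMaximal.isPrime
    refine ⟨fun z => ?_⟩
    obtain ⟨z, rfl⟩ := Ideal.Quotient.mk_surjective z
    obtain ⟨r, hr, x, hx⟩ := Ideal.Fiber.exists_smul_eq_one_tmul _ z
    obtain ⟨j, y, rfl⟩ := Hens.PHs.exists_of x
    exact Hens.isSeparable_fibre_of_hom (Hens.PHs.of j) p _ z r hr y hx
  · exact ((IsArtinianRing.equivPi (p.Fiber (Hens.PHs I))).restrictScalars p.ResidueField).trans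
      (AlgEquiv.piCongrLeft' p.ResidueField
        (fun J : MaximalSpectrum (p.Fiber (Hens.PHs I)) => p.Fiber (Hens.PHs I) ⧸ J.asIdeal) en)

theorem isGRing_pHs (hR : CAlg.IsGRing R) : CAlg.IsGRing (Hens.PHs I) := by
  haveI := hR.1
  haveI := HensH7.isNoetherianRing_pHs (I := I)
  refine isGRing_of_maximal (Hens.PHs I) fun m _ => ?_
  let B := Hens.PHs I
  let p := m.comap (algebraMap R B)
  haveI : m.LiesOver p := ⟨rfl⟩
  let Ap := Localization.AtPrime p
  let Bm := Localization.AtPrime m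
  letI := Localization.AtPrime.algebraOfLiesOver p m
  obtain ⟨hloc, hfl⟩ := Hens.localization_pair (pHs_unrStalks I) p m
  haveI := hloc
  haveI : Module.Flat Ap Bm := hfl
  have hm : (maximalIdeal Ap).map (algebraMap Ap Bm) = maximalIdeal Bm :=
    Hens.map_maximalIdeal_localization (pHs_unrStalks I) p m
  have hIm : I.map (algebraMap R B) ≤ m := Hens.PHs.le_jacobson.trans (sInf_le ⟨bot_le, inferInstance⟩)
  have hres : ∀ x : Bm, ∃ r : Ap, x - algebraMap Ap Bm r ∈ maximalIdeal Bm := fun x => by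
    obtain ⟨b, s, rfl⟩ := IsLocalization.exists_mk'_eq m.primeCompl x
    obtain ⟨a, ha⟩ := Hens.PHs.exists_sub_mem b
    obtain ⟨t, ht⟩ := Hens.PHs.exists_sub_mem (s : B)
    have htp : t ∈ p.primeCompl := fun h => s.2 (by
      have := add_mem (hIm ht) (show algebraMap R B t ∈ m from h)
      rwa [sub_add_cancel] at this)
    refine ⟨IsLocalization.mk' Ap a ⟨t, htp⟩, ?_⟩
    have htm : algebraMap R B t ∈ m.primeCompl := htp
    have e : algebraMap Ap Bm (IsLocalization.mk' Ap a ⟨t, htp⟩) =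
        IsLocalization.mk' Bm (algebraMap R B a) ⟨algebraMap R B t, htm⟩ := by
      rw [IsLocalization.eq_mk'_iff_mul_eq, ← IsScalarTower.algebraMap_apply, ← IsScalarTower.algebraMap_apply,
        IsScalarTower.algebraMap_apply R Ap Bm, IsScalarTower.algebraMap_apply R Ap Bm, ← map_mul]
      exact congrArg _ (IsLocalization.mk'_spec Ap a ⟨t, htp⟩)
    rw [e, ← IsLocalization.mk'_sub]
    refine (IsLocalization.AtPrime.mk'_mem_maximal_iff Bm m _ _).2 ?_
    rw [show b * algebraMap R B t - algebraMap R B a * (s : B) =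
      (b - algebraMap R B a) * (s : B) - b * ((s : B) - algebraMap R B t) by ring]
    exact sub_mem (Ideal.mul_mem_right _ _ (hIm ha)) (Ideal.mul_mem_left _ _ (hIm ht))
  haveI : IsNoetherianRing Ap := IsLocalization.isNoetherianRing p.primeCompl _ inferInstance
  haveI : IsNoetherianRing Bm := IsLocalization.isNoetherianRing m.primeCompl _ inferInstance
  haveI := CplLocH7.isNoetherianRing_cpl Ap
  haveI := CplLocH7.isNoetherianRing_cpl Bm
  obtain ⟨_, _, hb⟩ := exists_cpl_bijective Ap Bm hm hres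
  have hreg : CAlg.IsRegularHom Ap (EGA4.Cpl Bm) :=
    FlatDepth.isRegularHom_comp Ap (EGA4.Cpl Ap) (EGA4.Cpl Bm) (hR.2 p) (GRing12.isRegularHom_of_bijective _ _ hb)
  let T := EGA4.Cpl Bm
  haveI : Module.FaithfullyFlat Bm T := CplLocH7.faithfullyFlat_cpl Bm
  haveI : Module.Flat B T := Module.Flat.trans B Bm T
  have hregR : CAlg.IsRegularHom R T :=
    FlatDepth.isRegularHom_comp R Ap T (isRegularHom_isLocalization R Ap p.primeCompl) hreg
  exact isRegularHom_of_localized_base B Bm T m.primeCompl (isRegularHom_up_piFibres R B T (pHs_hasPiFibres I) hregR)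

end Groth.Agent.GRing6
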