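import Groth.Agent.Lib.GRing6.Completion
import Mathlib

/-! # `A → A[[T₁, …, T_r]]` is regular for a G-ring `A` -/

set_option autoImplicit false
set_option linter.style.haveILetI false
universe u

open TensorProduct

namespace Groth.Agent.GRing6

/-- Polynomial rings are regular over the base. -/
theorem isRegularHom_mvPolynomial (A : Type u) [CommRing A] [IsNoetherianRing A] (r : ℕ) :
    CAlg.IsRegularHom A (MvPolynomial (Fin r) A) := by
  refine ⟨inferInstance, fun p _ => ⟨FlatDepth.isNoetherianRing_fiber p, fun k' _ _ _ => ?_⟩⟩
  letI : Algebra A k' := ((algebraMap p.ResidueField k').comp (algebraMap A p.ResidueField)).toAlgebra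
  haveI : IsScalarTower A p.ResidueField k' := .of_algebraMap_eq fun _ => rfl
  haveI : IsRegularRing k' := inferInstance
  exact IsRegularRing.of_ringEquiv
    (((Algebra.TensorProduct.cancelBaseChange A p.ResidueField p.ResidueField k' (MvPolynomial (Fin r) A)).toRingEquiv.trans
      (MvPolynomial.algebraTensorAlgEquiv (R := A) (σ := Fin r) (A := k')).toRingEquiv).symm)

/-- The power series ring over a G-ring is regular over it. -/
theorem isRegularHom_mvPowerSeries (A : Type u) [CommRing A] (hA : CAlg.IsGRing A) (r : ℕ) :
    CAlg.IsRegularHom A (MvPowerSeries (Fin r) A) := by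
  haveI := hA.1
  let P := MvPolynomial (Fin r) A
  let V := MvPolynomial.idealOfVars (Fin r) A
  haveI : IsNoetherianRing (AdicCompletion V P) :=
    Compl.isNoetherianRing_adicCompletion V (MvPolynomial.idealOfVars_fg _ _)
  let e := MvPowerSeries.toAdicCompletionAlgEquiv (Fin r) A
  haveI : IsNoetherianRing (MvPowerSeries (Fin r) A) := isNoetherianRing_of_ringEquiv _ e.symm.toRingEquiv
  have h1 : CAlg.IsRegularHom A (AdicCompletion V P) :=
    FlatDepth.isRegularHom_comp A P _ (isRegularHom_mvPolynomial A r)
      (isRegularHom_adicCompletion P (isGRing_mvPolynomial A hA r) V)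
  letI : Algebra (AdicCompletion V P) (MvPowerSeries (Fin r) A) := e.symm.toRingEquiv.toRingHom.toAlgebra
  haveI : IsScalarTower A (AdicCompletion V P) (MvPowerSeries (Fin r) A) := .of_algebraMap_eq fun a => by
    show _ = e.symm (algebraMap A (AdicCompletion V P) a)
    rw [IsScalarTower.algebraMap_apply A P (AdicCompletion V P), AlgEquiv.commutes, ← IsScalarTower.algebraMap_apply]
  exact FlatDepth.isRegularHom_comp A (AdicCompletion V P) _ h1
    (GRing12.isRegularHom_of_bijective _ _ e.symm.toRingEquiv.bijective)

end Groth.Agent.GRing6
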